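import Groth.Agent.FlatCx.Exact
import Mathlib.RingTheory.LocalRing.Module

/-!
# Exactness over a local ring is tested on the residue field
-/

set_option autoImplicit false

universe u

open CategoryTheory CategoryTheory.Limits TensorProduct IsLocalRing

namespace Groth.Agent.FlatCx

variable {A : Type u} [CommRing A] [IsLocalRing A] {ι : Type} {c : ComplexShape ι}
  {P : HomologicalComplex (ModuleCat.{u} A) c} {i j k : ι}

/-- The quotient map to the residue field as a morphism of modules. -/
noncomputable abbrev toResidue (A : Type u) [CommRing A] [IsLocalRing A] :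
    ModuleCat.of A A ⟶ ModuleCat.of A (ResidueField A) :=
  ModuleCat.ofHom (Algebra.linearMap A (ResidueField A))

theorem free_opc_of_surjAt_residue (hP : ∀ m, Module.Finite A (P.X m) ∧ Module.Flat A (P.X m))
    (h : SurjAt P i j k (Algebra.linearMap A (ResidueField A))) :
    Module.Free A (Opc P j k) := by
  haveI := fun m => (hP m).1
  haveI := fun m => (hP m).2
  haveI : Module.Free A (P.X k) := Module.free_of_flat_of_isLocalRing
  let d := (P.d j k).hom
  refine Module.free_of_lTensor_residueField_injective (LinearMap.range d).subtype (opq P j k)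
    (Submodule.mkQ_surjective _) (LinearMap.exact_subtype_mkQ _) ?_
  rw [LinearMap.lTensor_inj_iff_rTensor_inj, injective_iff_map_eq_zero]
  intro w hw
  obtain ⟨z, rfl⟩ := LinearMap.rTensor_surjective (ResidueField A) d.surjective_rangeRestrict w
  rw [← LinearMap.comp_apply, ← LinearMap.rTensor_comp] at hw
  replace hw : dT P _ j k z = 0 := hw
  obtain ⟨z', hz', ⟨v, hv⟩⟩ := h z hw
  have hv' : d.rangeRestrict.rTensor _ (dT P _ i j v) = 0 := by
    rw [dT, ← LinearMap.comp_apply, ← LinearMap.rTensor_comp]
    have : d.rangeRestrict ∘ₗ (P.d i j).hom = 0 := by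
      apply LinearMap.ext; intro a; apply Subtype.ext
      exact congr($(P.d_comp_d i j k) a)
    rw [this, LinearMap.rTensor_zero]; rfl
  rw [hv, map_sub, sub_eq_zero] at hv'
  rw [← hv', ← LinearMap.comp_apply, LinearMap.rTensor_comp_lTensor,
    ← LinearMap.lTensor_comp_rTensor, LinearMap.comp_apply]
  suffices h0 : d.rangeRestrict.rTensor A z' = 0 by rw [h0, map_zero]
  apply (TensorProduct.rid A _).injective
  apply Subtype.ext
  rw [map_zero]
  have hnat : ∀ a : P.X j ⊗[A] A,
      ((TensorProduct.rid A (LinearMap.range d) (d.rangeRestrict.rTensor A a) : LinearMap.range d) : P.X k) =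
        TensorProduct.rid A _ (d.rTensor A a) := by
    intro a
    induction a with
    | zero => simp
    | tmul x r => simp
    | add x y hx hy => simp [hx, hy]
  rw [hnat, show d.rTensor A z' = 0 from hz']
  simp

theorem preservesEpi_iff_free_opc (hP : ∀ m, Module.Finite A (P.X m) ∧ Module.Flat A (P.X m)) {l : ι}
    (hi : c.prev j = i) (hk : c.next j = k) (hj : c.prev k = j) (hl : c.next k = l) :
    (CohIII.TFun P j).PreservesEpimorphisms ↔ Module.Free A (Opc P j k) := by
  haveI := fun m => (hP m).1
  rw [preservesEpi_iff_preservesMono_next (fun m => (hP m).2) hi hk hj hl,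
    preservesMono_iff_flat_opc (fun m => (hP m).2) hj hl]
  exact ⟨fun _ => Module.free_of_flat_of_isLocalRing, fun _ => inferInstance⟩

theorem preservesEpi_iff_surjective_residue
    (hP : ∀ m, Module.Finite A (P.X m) ∧ Module.Flat A (P.X m)) {l : ι}
    (hi : c.prev j = i) (hk : c.next j = k) (hj : c.prev k = j) (hl : c.next k = l) :
    (CohIII.TFun P j).PreservesEpimorphisms ↔
      Function.Surjective ((CohIII.TFun P j).map (toResidue A)).hom := by
  rw [TFun_map_surjective_iff hi hk]
  constructor
  · intro h
    exact (preservesEpi_iff hi hk).1 h A (ResidueField A) _ Ideal.Quotient.mk_surjective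
  · intro h
    exact (preservesEpi_iff_free_opc hP hi hk hj hl).2 (free_opc_of_surjAt_residue hP h)

end Groth.Agent.FlatCx
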