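import Groth.Agent.FlatCx.Tensor
import Groth.Agent.FlatCx.Local

/-!
# Chain complexes of flat modules
-/

set_option autoImplicit false

universe u

open CategoryTheory CategoryTheory.Limits TensorProduct MonoidalCategory IsLocalRing

namespace Groth.Agent.FlatCx

theorem down_next (p : ℤ) : (ComplexShape.down ℤ).next p = p - 1 :=
  ComplexShape.next_eq' _ (show p - 1 + 1 = p by omega)

theorem down_prev (p : ℤ) : (ComplexShape.down ℤ).prev p = p + 1 := ChainComplex.prev ℤ p

theorem down_prev_next (p : ℤ) :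
    (ComplexShape.down ℤ).prev ((ComplexShape.down ℤ).next p) = p := by
  rw [down_next, down_prev]; omega

variable {A : Type u} [CommRing A] (P : ChainComplex (ModuleCat.{u} A) ℤ)

theorem epi_iff_mono_pred (hP : ∀ m, Module.Flat A (P.X m)) (p q : ℤ) (hpq : q + 1 = p) :
    (CohIII.TFun P p).PreservesEpimorphisms ↔ (CohIII.TFun P q).PreservesMonomorphisms := by
  subst hpq
  exact preservesEpi_iff_preservesMono_next hP rfl
    (show (ComplexShape.down ℤ).next (q + 1) = q by rw [down_next]; omega) (down_prev q) rfl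

theorem exact_of_isZero {j : ℤ}
    (h : ∀ M : ModuleCat.{u} A, IsZero ((CohIII.TFun P j).obj M)) :
    (CohIII.TFun P j).PreservesMonomorphisms ∧ (CohIII.TFun P j).PreservesEpimorphisms :=
  ⟨⟨fun {M N} _ _ => ⟨fun a b _ => (h M).eq_of_tgt a b⟩⟩,
    ⟨fun {M N} _ _ => ⟨fun a b _ => (h N).eq_of_src a b⟩⟩⟩

theorem finite_Hm [IsNoetherianRing A] (hP : ∀ m, Module.Finite A (P.X m)) (j : ℤ) :
    Module.Finite A (Hm P j) := by
  haveI := hP j
  haveI : IsNoetherian A (P.X j) := isNoetherian_of_isNoetherianRing_of_finite A (P.X j)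
  infer_instance

theorem finite_T [IsNoetherianRing A] (hP : ∀ m, Module.Finite A (P.X m) ∧ Module.Flat A (P.X m))
    (j : ℤ) (h : (CohIII.TFun P j).PreservesEpimorphisms) :
    Module.Finite A ((CohIII.TFun P j).obj (ModuleCat.of A A)) := by
  haveI := finite_Hm P (fun m => (hP m).1) j
  exact Module.Finite.equiv (HmEquiv P j (fun m => (hP m).2)
    ((preservesEpi_iff_flat_opc P j (fun m => (hP m).2) (down_prev_next j)).1 h))

theorem isZero_of_isZero_residue [IsNoetherianRing A] [IsLocalRing A]
    (hP : ∀ m, Module.Finite A (P.X m) ∧ Module.Flat A (P.X m)) (j : ℤ)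
    (h : IsZero ((CohIII.TFun P j).obj (ModuleCat.of A (ResidueField A)))) (M : ModuleCat.{u} A) :
    IsZero ((CohIII.TFun P j).obj M) := by
  haveI : Subsingleton (CohIII.T P j (ModuleCat.of A (ResidueField A))) :=
    ModuleCat.subsingleton_of_isZero h
  have hf := fun m => (hP m).2
  have he : (CohIII.TFun P j).PreservesEpimorphisms :=
    (preservesEpi_iff_surjective_residue hP (i := (ComplexShape.down ℤ).prev j) rfl rfl
      (down_prev_next j) rfl).2 (fun x => ⟨0, (ModuleCat.subsingleton_of_isZero h).elim _ _⟩)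
  have hW := (preservesEpi_iff_flat_opc P j hf (down_prev_next j)).1 he
  haveI := finite_Hm P (fun m => (hP m).1) j
  haveI : Subsingleton (Hm P j ⊗[A] ResidueField A) :=
    (LinearEquiv.ofBijective (comparison P j (ModuleCat.of A (ResidueField A)))
      (comparison_bijective P j hf hW _)).injective.subsingleton
  haveI : Subsingleton (ResidueField A ⊗[A] Hm P j) :=
    (TensorProduct.comm A _ _).injective.subsingleton
  haveI : Subsingleton (Hm P j) := (IsLocalRing.subsingleton_tensorProduct (R := A)).1 inferInstance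
  haveI : Subsingleton (Hm P j ⊗[A] M) := inferInstance
  haveI : Subsingleton ((CohIII.TFun P j).obj M) :=
    (comparison_bijective P j hf hW M).2.subsingleton
  exact ModuleCat.isZero_of_subsingleton _

theorem exact_and_free_of_adjacent [IsNoetherianRing A] [IsLocalRing A]
    (hP : ∀ m, Module.Finite A (P.X m) ∧ Module.Flat A (P.X m)) (p q r : ℤ)
    (hqp : q + 1 = p) (hpr : p + 1 = r)
    (hq : IsZero ((CohIII.TFun P q).obj (ModuleCat.of A (ResidueField A))))
    (hr : IsZero ((CohIII.TFun P r).obj (ModuleCat.of A (ResidueField A)))) :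
    ((CohIII.TFun P p).PreservesMonomorphisms ∧ (CohIII.TFun P p).PreservesEpimorphisms) ∧
      Module.Free A ((CohIII.TFun P p).obj (ModuleCat.of A A)) := by
  have hf := fun m => (hP m).2
  have hm : (CohIII.TFun P p).PreservesMonomorphisms :=
    (epi_iff_mono_pred P hf r p hpr).1 (exact_of_isZero P (isZero_of_isZero_residue P hP r hr)).2
  have he : (CohIII.TFun P p).PreservesEpimorphisms :=
    (epi_iff_mono_pred P hf p q hqp).2 (exact_of_isZero P (isZero_of_isZero_residue P hP q hq)).1
  haveI := finite_T P hP p he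
  haveI := ((exact_iff_preservesEpi_and_flat P p hf (down_prev_next p)).1 ⟨hm, he⟩).2
  exact ⟨⟨hm, he⟩, Module.free_of_flat_of_isLocalRing⟩

theorem exact_upTo_iff (hP : ∀ m, Module.Flat A (P.X m)) (i₀ : ℤ)
    (hb : ∀ i < i₀, IsZero (P.X i)) (p : ℤ) :
    (∀ q ≤ p, (CohIII.TFun P q).PreservesMonomorphisms ∧ (CohIII.TFun P q).PreservesEpimorphisms) ↔
      ∀ q ≤ p, Module.Flat A ((CohIII.TFun P q).obj (ModuleCat.of A A)) := by
  refine ⟨fun h q hq => ((exact_iff_preservesEpi_and_flat P q hP (down_prev_next q)).1 (h q hq)).2,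
    fun h => ?_⟩
  have h0 : ∀ q < i₀, ∀ M : ModuleCat.{u} A, IsZero ((CohIII.TFun P q).obj M) := by
    intro q hq M
    apply (isZero_homology_iff (K := CohIII.tensorObj P M) (j := q) rfl rfl).2
    intro z _
    haveI := ModuleCat.subsingleton_of_isZero (hb q hq)
    have : Subsingleton (P.X q ⊗[A] M) := inferInstance
    exact ⟨0, this.elim _ _⟩
  suffices H : ∀ n : ℕ, ∀ q : ℤ, q = i₀ - 1 + n → q ≤ p →
      (CohIII.TFun P q).PreservesMonomorphisms ∧ (CohIII.TFun P q).PreservesEpimorphisms by
    intro q hq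
    by_cases hlt : q < i₀
    · exact exact_of_isZero P (h0 q hlt)
    · exact H (q - (i₀ - 1)).toNat q (by omega) hq
  intro n
  induction n with
  | zero => intro q hq _; exact exact_of_isZero P (h0 q (by omega))
  | succ n ih =>
    intro q hq hqp
    have he := (epi_iff_mono_pred P hP q (q - 1) (by omega)).2
      (ih (q - 1) (by omega) (by omega)).1
    exact (exact_iff_preservesEpi_and_flat P q hP (down_prev_next q)).2 ⟨he, h q hqp⟩

theorem exact_iff_preservesEpi_and_free [IsNoetherianRing A] [IsLocalRing A]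
    (hP : ∀ m, Module.Finite A (P.X m) ∧ Module.Flat A (P.X m)) (p : ℤ) :
    ((CohIII.TFun P p).PreservesMonomorphisms ∧ (CohIII.TFun P p).PreservesEpimorphisms) ↔
      ((CohIII.TFun P p).PreservesEpimorphisms ∧
        Module.Free A ((CohIII.TFun P p).obj (ModuleCat.of A A))) := by
  rw [exact_iff_preservesEpi_and_flat P p (fun m => (hP m).2) (down_prev_next p)]
  refine and_congr_right fun he => ?_
  haveI := finite_T P hP p he
  exact ⟨fun _ => Module.free_of_flat_of_isLocalRing, fun _ => inferInstance⟩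

theorem smul_injective_pred (hP : ∀ m, Module.Flat A (P.X m)) (p q : ℤ) (hpq : q + 1 = p)
    (hex : (CohIII.TFun P p).PreservesEpimorphisms) (M : ModuleCat.{u} A) (f : A)
    (hf : Function.Injective (fun x : M => f • x)) :
    Function.Injective (fun y : CohIII.T P q M => f • y) := by
  haveI := (epi_iff_mono_pred P hP p q hpq).1 hex
  haveI : Mono (f • 𝟙 M) := (ModuleCat.mono_iff_injective _).2 hf
  have hm := (ModuleCat.mono_iff_injective _).1
    (inferInstance : Mono ((CohIII.TFun P q).map (f • 𝟙 M)))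
  rw [Functor.map_smul, CategoryTheory.Functor.map_id] at hm
  exact hm

end Groth.Agent.FlatCx
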