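import Groth.Agent.FlatCx.Semicontinuous
import Groth.Agent.FlatCx.Chain
import Mathlib.Topology.Constructible
import Mathlib.RingTheory.Spectrum.Prime.Noetherian
import Mathlib.Algebra.Ring.NegOnePow
import Mathlib.Algebra.BigOperators.Finprod

/-!
# Consequences of the rank formula
-/

set_option autoImplicit false

universe u

open CategoryTheory CategoryTheory.Limits TensorProduct Topology

namespace Groth.Agent.FlatCx

variable {A : Type u} [CommRing A]

theorem alternating_shift_sum (s : Finset ℤ) (g : ℤ → ℤ) (h : ∀ i, g i ≠ 0 → i ∈ s ∧ i - 1 ∈ s) :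
    (s.sum fun i => g (i + 1)) = s.sum g := by
  rw [← finsum_eq_sum_of_support_subset g (s := s) (fun i hi => (h i hi).1),
    ← finsum_eq_sum_of_support_subset (fun i => g (i + 1)) (s := s)
      (fun i hi => by have := (h (i + 1) hi).2; rwa [add_sub_cancel_right] at this)]
  exact finsum_comp_equiv (Equiv.addRight (1 : ℤ))

variable (P : ChainComplex (ModuleCat.{u} A) ℤ)

theorem dRank_add_down (hf : ∀ i, Module.Finite A (P.X i) ∧ Module.Flat A (P.X i)) (p : ℤ)
    (x : PrimeSpectrum A) :
    CohIII.dRank P p x + fibreRk (P.d (p + 1) p).hom x + fibreRk (P.d p (p - 1)).hom x =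
      Module.rankAtStalk (P.X p) x := by
  haveI := (hf p).1
  haveI := (hf p).2
  exact dRank_add P (down_prev p) (down_next p) x

theorem euler (hP : ∀ i, Module.Finite A (P.X i) ∧ Module.Projective A (P.X i))
    (s : Finset ℤ) (hs : ∀ i, i ∉ s → IsZero (P.X i)) (x : PrimeSpectrum A) :
    (s.sum fun i => ((i.negOnePow : ℤˣ) : ℤ) * (CohIII.dRank P i x : ℤ)) =
      s.sum fun i => ((i.negOnePow : ℤˣ) : ℤ) * (Module.rankAtStalk (P.X i) x : ℤ) := by
  let r : ℤ → ℤ := fun i => (fibreRk (P.d i (i - 1)).hom x : ℤ)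
  have hzero : ∀ i, ((i.negOnePow : ℤˣ) : ℤ) * r i ≠ 0 → i ∈ s ∧ i - 1 ∈ s := by
    intro i hi
    by_contra hc
    refine hi ?_
    have h0 : (P.d i (i - 1)).hom = 0 := by
      rcases not_and_or.1 hc with h | h
      · rw [(hs i h).eq_of_src (P.d i (i - 1)) 0]; rfl
      · rw [(hs _ h).eq_of_tgt (P.d i (i - 1)) 0]; rfl
    show _ * (fibreRk (P.d i (i - 1)).hom x : ℤ) = 0
    rw [h0]
    simp only [fibreRk]; rw [LinearMap.baseChange_zero, LinearMap.range_zero, finrank_bot]; simp
  have key := alternating_shift_sum s (fun i => ((i.negOnePow : ℤˣ) : ℤ) * r i) hzero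
  have hterm : ∀ i ∈ s, ((i.negOnePow : ℤˣ) : ℤ) * (Module.rankAtStalk (P.X i) x : ℤ) =
      ((i.negOnePow : ℤˣ) : ℤ) * (CohIII.dRank P i x : ℤ) +
        (((i.negOnePow : ℤˣ) : ℤ) * r i - (((i + 1).negOnePow : ℤˣ) : ℤ) * r (i + 1)) := by
    intro i _
    have e := dRank_add_down P (fun m => ⟨(hP m).1,
      haveI := (hP m).2; Module.Flat.of_projective⟩) i x
    have h1 : r (i + 1) = (fibreRk (P.d (i + 1) i).hom x : ℤ) := by
      show (fibreRk (P.d (i + 1) (i + 1 - 1)).hom x : ℤ) = _
      rw [show i + 1 - 1 = i by omega]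
    rw [← e, h1, Int.negOnePow_succ, Units.val_neg]
    push_cast
    ring
  rw [Finset.sum_congr rfl hterm, Finset.sum_add_distrib, Finset.sum_sub_distrib, key, sub_self,
    add_zero]

theorem eventually_dRank_eq (hf : ∀ i, Module.Finite A (P.X i) ∧ Module.Flat A (P.X i))
    (hfp : ∀ i, Module.FinitePresentation A (P.X i)) (p : ℤ) (z : PrimeSpectrum A)
    (hlo : ∀ᶠ x in nhds z, CohIII.dRank P (p - 1) x = CohIII.dRank P (p - 1) z)
    (hhi : ∀ᶠ x in nhds z, CohIII.dRank P (p + 1) x = CohIII.dRank P (p + 1) z) :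
    ∀ᶠ x in nhds z, CohIII.dRank P p x = CohIII.dRank P p z := by
  haveI := fun i => (hf i).1
  haveI := fun i => (hf i).2
  haveI := hfp
  haveI : ∀ i, Module.Projective A (P.X i) := fun i => Module.Flat.projective_of_finitePresentation
  have hr : ∀ a b, ∀ᶠ x in nhds z, fibreRk (P.d a b).hom z ≤ fibreRk (P.d a b).hom x := fun a b =>
    (isOpen_le_fibreRk (P.d a b).hom (fibreRk (P.d a b).hom z)).mem_nhds (x := z) (by simp)
  have hn : ∀ i, ∀ᶠ x in nhds z, Module.rankAtStalk (P.X i) x = Module.rankAtStalk (P.X i) z :=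
    fun i => (Module.isLocallyConstant_rankAtStalk (R := A) (M := P.X i)).eventually_eq z
  have e : ∀ a b c x, a = b + 1 → c = b - 1 → CohIII.dRank P b x + fibreRk (P.d a b).hom x +
      fibreRk (P.d b c).hom x = Module.rankAtStalk (P.X b) x := by
    intro a b c x ha hb; subst ha hb; exact dRank_add_down P hf b x
  filter_upwards [hlo, hhi, hn (p - 1), hn p, hn (p + 1), hr (p + 1 + 1) (p + 1), hr (p + 1) p,
    hr p (p - 1), hr (p - 1) (p - 1 - 1)] with x a b c d f g h k l
  have e1 := e p (p - 1) (p - 1 - 1) x (by omega) rfl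
  have e2 := e p (p - 1) (p - 1 - 1) z (by omega) rfl
  have e3 := e (p + 1 + 1) (p + 1) p x rfl (by omega)
  have e4 := e (p + 1 + 1) (p + 1) p z rfl (by omega)
  have e5 := e (p + 1) p (p - 1) x rfl rfl
  have e6 := e (p + 1) p (p - 1) z rfl rfl
  omega

theorem isConstructible_dRank_eq [IsNoetherianRing A]
    (hP : ∀ i, Module.Finite A (P.X i) ∧ Module.Flat A (P.X i)) (p : ℤ) :
    (Set.range (CohIII.dRank P p)).Finite ∧
      ∀ n : ℕ, IsConstructible {x : PrimeSpectrum A | CohIII.dRank P p x = n} := by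
  haveI := fun i => (hP i).1
  haveI := fun i => (hP i).2
  have hfp := fun i => Module.finitePresentation_of_finite A (P.X i)
  haveI := hfp
  constructor
  · obtain ⟨N, hN⟩ := ((Module.isLocallyConstant_rankAtStalk (R := A) (M := P.X p)).range_finite).bddAbove
    refine (Set.finite_Iic N).subset ?_
    rintro _ ⟨x, rfl⟩
    have := dRank_add_down P hP p x
    have h2 : Module.rankAtStalk (P.X p) x ≤ N := hN ⟨x, rfl⟩
    show CohIII.dRank P p x ≤ N
    omega
  · intro n
    have hc : ∀ m : ℕ, IsConstructible {x : PrimeSpectrum A | CohIII.dRank P p x < m} := by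
      intro m
      have ho : IsOpen {x : PrimeSpectrum A | CohIII.dRank P p x < m} :=
        isOpen_iff_mem_nhds.2 fun x hx => upperSemicontinuous_dRank P hP hfp p x m hx
      exact (TopologicalSpace.NoetherianSpace.isCompact _).isConstructible ho
    convert (hc (n + 1)).sdiff (hc n) using 1
    ext x
    simp only [Set.mem_ofPred_eq, Set.mem_sdiff]
    omega

end Groth.Agent.FlatCx
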