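import Mathlib.RingTheory.Spectrum.Prime.FreeLocus
import Mathlib.RingTheory.LocalRing.Module
import Mathlib.RingTheory.LocalRing.ResidueField.Ideal
import Mathlib.RingTheory.Nilpotent.Lemmas
import Mathlib.RingTheory.LocalProperties.Reduced
import Mathlib.RingTheory.Flat.Localization
import Mathlib.RingTheory.Localization.AtPrime.Basic

/-!
# Constant fibre rank over reduced rings
-/

set_option autoImplicit false

universe u

open TensorProduct IsLocalRing

namespace Groth.Agent.FlatCx

variable {A : Type u} [CommRing A] (W : Type u) [AddCommGroup W] [Module A W]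

/-- `dim_{k(x)} (k(x) ⊗ W)`. -/
noncomputable def fdim (x : PrimeSpectrum A) : ℕ :=
  Module.finrank x.asIdeal.ResidueField (x.asIdeal.ResidueField ⊗[A] W)

theorem fdim_eq_rankAtStalk [Module.Finite A W] [Module.Flat A W] (x : PrimeSpectrum A) :
    fdim W x = Module.rankAtStalk W x := (Module.rankAtStalk_eq x).symm

variable {W} in
theorem fdim_congr {W' : Type u} [AddCommGroup W'] [Module A W'] (e : W ≃ₗ[A] W')
    (x : PrimeSpectrum A) : fdim W x = fdim W' x :=
  (e.baseChange A x.asIdeal.ResidueField W W').finrank_eq

theorem free_of_fdim_minimal [IsLocalRing A] [IsReduced A] [Module.Finite A W]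
    (h : ∀ q : PrimeSpectrum A, q.asIdeal ∈ minimalPrimes A → fdim W q = fdim W (closedPoint A)) :
    Module.Free A W := by
  let m := maximalIdeal A
  let k := m.ResidueField
  have hk : Function.Surjective (algebraMap A k) := m.algebraMap_residueField_surjective
  have hone : ∀ v : k ⊗[A] W, ∃ w : W, 1 ⊗ₜ w = v := by
    intro v
    induction v with
    | zero => exact ⟨0, tmul_zero _ _⟩
    | tmul a w =>
      obtain ⟨r, rfl⟩ := hk a
      exact ⟨r • w, by rw [← smul_tmul, Algebra.algebraMap_eq_smul_one]⟩
    | add x y hx hy =>
      obtain ⟨a, rfl⟩ := hx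
      obtain ⟨b, rfl⟩ := hy
      exact ⟨a + b, tmul_add _ _ _⟩
  let b : Module.Basis (Fin (Module.finrank k (k ⊗[A] W))) k (k ⊗[A] W) := Module.finBasis k _
  choose w hw using fun i => hone (b i)
  let φ := Fintype.linearCombination A w
  have hsurj : Function.Surjective φ := by
    rw [← LinearMap.range_eq_top]
    by_contra hne
    let N := LinearMap.range φ
    have hq : Subsingleton (k ⊗[A] (W ⧸ N)) := by
      have hs : Function.Surjective (N.mkQ.baseChange k) :=
        LinearMap.lTensor_surjective k N.mkQ_surjective
      have h0 : ∀ v, N.mkQ.baseChange k v = 0 := by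
        intro v
        have : (N.mkQ.baseChange k) = 0 := by
          apply b.ext
          intro i
          rw [LinearMap.zero_apply, ← hw i, LinearMap.baseChange_tmul]
          have : N.mkQ (w i) = 0 := by
            rw [Submodule.mkQ_apply, Submodule.Quotient.mk_eq_zero]
            exact ⟨Pi.single i 1, by simp [φ, Fintype.linearCombination_apply_single]⟩
          rw [this, tmul_zero]
        rw [this]; rfl
      refine ⟨fun a c => ?_⟩
      obtain ⟨a, rfl⟩ := hs a
      obtain ⟨c, rfl⟩ := hs c
      rw [h0, h0]
    let e : (A ⧸ m) ≃ₗ[A] k := LinearEquiv.ofBijective (IsScalarTower.toAlgHom A (A ⧸ m) k).toLinearMap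
      m.bijective_algebraMap_quotient_residueField
    haveI : Subsingleton (ResidueField A ⊗[A] (W ⧸ N)) :=
      (TensorProduct.congr e (LinearEquiv.refl A (W ⧸ N))).injective.subsingleton
    exact hne ((Submodule.Quotient.subsingleton_iff).1
      ((IsLocalRing.subsingleton_tensorProduct (R := A)).1 inferInstance))
  have hinj : Function.Injective φ := by
    rw [injective_iff_map_eq_zero]
    intro x hx
    funext i
    show x i = 0
    have hnil : x i ∈ nilradical A := by
      rw [nilradical_eq_sInf, Submodule.mem_sInf]
      intro (p : Ideal A) (hp : p.IsPrime)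
      obtain ⟨q, hq, hqp⟩ := Ideal.exists_minimalPrimes_le (I := (⊥ : Ideal A)) (J := p) bot_le
      haveI := hq.1.1
      refine hqp ?_
      let κ := q.ResidueField
      have hd : fdim W ⟨q, hq.1.1⟩ = Module.finrank k (k ⊗[A] W) := h ⟨q, hq.1.1⟩ hq
      have hsurj' : Function.Surjective (φ.baseChange κ) := LinearMap.lTensor_surjective κ hsurj
      have hinj' : Function.Injective (φ.baseChange κ) := by
        refine (LinearMap.injective_iff_surjective_of_finrank_eq_finrank ?_).2 hsurj'
        rw [Module.finrank_baseChange, Module.finrank_fintype_fun_eq_card, Fintype.card_fin]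
        exact hd.symm
      have h1 : (1 : κ) ⊗ₜ[A] x = 0 := by
        apply hinj'
        rw [map_zero, LinearMap.baseChange_tmul, hx, tmul_zero]
      have h2 := congrArg ((LinearMap.proj i : (Fin _ → A) →ₗ[A] A).baseChange κ) h1
      rw [map_zero, LinearMap.baseChange_tmul] at h2
      replace h2 := congrArg (TensorProduct.rid A κ) h2
      rw [map_zero, TensorProduct.rid_tmul] at h2
      exact Ideal.algebraMap_residueField_eq_zero.1 (by
        rw [Algebra.algebraMap_eq_smul_one]; exact h2)
    rwa [nilradical_eq_zero, Submodule.zero_eq_bot, Submodule.mem_bot] at hnil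
  exact Module.Free.of_equiv (LinearEquiv.ofBijective φ ⟨hinj, hsurj⟩)

theorem fdim_localization (x : PrimeSpectrum A) (S : Type u) [CommRing S] [Algebra A S]
    (q : PrimeSpectrum S) (hq : q.comap (algebraMap A S) = x) :
    fdim (S ⊗[A] W) q = fdim W x := by
  subst hq
  let p := q.asIdeal.comap (algebraMap A S)
  letI : Algebra p.ResidueField q.asIdeal.ResidueField :=
    (Ideal.ResidueField.map p q.asIdeal (algebraMap A S) rfl).toAlgebra
  haveI : IsScalarTower A p.ResidueField q.asIdeal.ResidueField :=
    IsScalarTower.of_algebraMap_eq fun r => by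
      show algebraMap A q.asIdeal.ResidueField r =
        Ideal.ResidueField.map p q.asIdeal (algebraMap A S) rfl (algebraMap A p.ResidueField r)
      simp [← IsScalarTower.algebraMap_apply]
  show Module.finrank q.asIdeal.ResidueField (q.asIdeal.ResidueField ⊗[S] (S ⊗[A] W)) =
    Module.finrank p.ResidueField (p.ResidueField ⊗[A] W)
  rw [(AlgebraTensorModule.cancelBaseChange A S q.asIdeal.ResidueField q.asIdeal.ResidueField W).finrank_eq,
    ← (AlgebraTensorModule.cancelBaseChange A p.ResidueField q.asIdeal.ResidueField
      q.asIdeal.ResidueField W).finrank_eq, Module.finrank_baseChange]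

theorem flat_of_fdim_isLocallyConstant [IsReduced A] [Module.Finite A W]
    (h : IsLocallyConstant (fdim (A := A) W)) : Module.Flat A W := by
  refine Module.flat_of_localized_maximal W fun m hm => ?_
  haveI := hm.isPrime
  let S := Localization.AtPrime m
  haveI : IsReduced S :=
    inferInstance
  haveI : Module.Free S (S ⊗[A] W) := by
    refine free_of_fdim_minimal (S ⊗[A] W) fun q _ => ?_
    rw [fdim_localization W _ S q rfl, fdim_localization W _ S (closedPoint S) rfl]
    exact ((h.isOpen_fiber _).stableUnderGeneralization
      ((PrimeSpectrum.le_iff_specializes _ _).1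
        (Ideal.comap_mono (IsLocalRing.le_maximalIdeal q.isPrime.ne_top))) rfl)
  haveI : Module.Flat S (LocalizedModule m.primeCompl W) :=
    Module.Flat.of_linearEquiv (LocalizedModule.equivTensorProduct m.primeCompl W)
  exact Module.Flat.trans A S _

end Groth.Agent.FlatCx
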