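import Groth.Agent.FlatCx.BaseChange
import Groth.Agent.FlatCx.ReducedRank
import Groth.Agent.FlatCx.Ranks

/-!
# Exactness of `H_p(P ⊗ -)` and the rank function
-/

set_option autoImplicit false

universe u

open CategoryTheory CategoryTheory.Limits TensorProduct MonoidalCategory IsLocalRing

namespace Groth.Agent.FlatCx

variable {A : Type u} [CommRing A] {ι : Type} {c : ComplexShape ι}
  (P : HomologicalComplex (ModuleCat.{u} A) c)

theorem comparison_bijective_one (hP : ∀ m, Module.Flat A (P.X m)) (j : ι) :
    Function.Bijective (comparison P j (ModuleCat.of A A)) := by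
  let d := (P.d j (c.next j)).hom
  constructor
  · rw [injective_iff_map_eq_zero]
    intro w hw
    obtain ⟨v, rfl⟩ := LinearMap.rTensor_surjective A (Submodule.mkQ_surjective _) w
    rw [comparison_mkQ, psi, LinearMap.comp_apply, cls_eq_zero_iff] at hw
    obtain ⟨u', hu⟩ := hw
    have : (bd P j).rTensor A u' = v := by
      apply Module.Flat.rTensor_preserves_injective_linearMap (M := A) (Zc P j).subtype
        (Submodule.injective_subtype _)
      rw [← LinearMap.comp_apply, ← LinearMap.rTensor_comp]
      exact hu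
    rw [← this, ← LinearMap.comp_apply, ← LinearMap.rTensor_comp, LinearMap.range_mkQ_comp,
      LinearMap.rTensor_zero]
    rfl
  · intro h
    obtain ⟨z, rfl⟩ := cls_surjective P j (ModuleCat.of A A) h
    have hex : Function.Exact ((Zc P j).subtype.rTensor A) (d.rTensor A) :=
      Module.Flat.rTensor_exact A (LinearMap.exact_subtype_ker_map d)
    obtain ⟨w, hw⟩ := (hex z.1).1 z.2
    refine ⟨(LinearMap.range (bd P j)).mkQ.rTensor A w, ?_⟩
    rw [comparison_mkQ]
    exact congrArg (cls P j _) (Subtype.ext hw)

/-- `H_j(P)` is `H_j(P ⊗ A)`. -/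
noncomputable def HmEquivT (hP : ∀ m, Module.Flat A (P.X m)) (j : ι) :
    Hm P j ≃ₗ[A] CohIII.T P j (ModuleCat.of A A) :=
  (TensorProduct.rid A _).symm ≪≫ₗ LinearEquiv.ofBijective _ (comparison_bijective_one P hP j)

theorem dRank_eq_fdim (hP : ∀ m, Module.Flat A (P.X m)) (j : ι)
    (hW : Module.Flat A (Opc P j (c.next j))) (x : PrimeSpectrum A) :
    CohIII.dRank P j x = fdim (Hm P j) x :=
  (homology_bc x.asIdeal.ResidueField P hP j hW).some.finrank_eq

theorem flat_Hm_of_exact (hP : ∀ m, Module.Flat A (P.X m)) (j : ι) (hc : c.prev (c.next j) = j)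
    (h : (CohIII.TFun P j).PreservesMonomorphisms ∧ (CohIII.TFun P j).PreservesEpimorphisms) :
    Module.Flat A (Hm P j) ∧ ∀ x, CohIII.dRank P j x = fdim (Hm P j) x := by
  have hW := (preservesEpi_iff_flat_opc P j hP hc).1 h.2
  exact ⟨(preservesMono_iff_flat_Hm P j hP hW).1 h.1, dRank_eq_fdim P hP j hW⟩

theorem isLocallyConstant_dRank_of_exact (hP : ∀ m, Module.Flat A (P.X m)) (j : ι)
    (hc : c.prev (c.next j) = j) [Module.FinitePresentation A (Hm P j)]
    (h : (CohIII.TFun P j).PreservesMonomorphisms ∧ (CohIII.TFun P j).PreservesEpimorphisms) :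
    IsLocallyConstant (CohIII.dRank P j) := by
  obtain ⟨hf, he⟩ := flat_Hm_of_exact P hP j hc h
  rw [show CohIII.dRank P j = Module.rankAtStalk (R := A) (Hm P j) from
    funext fun x => (he x).trans (fdim_eq_rankAtStalk _ x)]
  exact Module.isLocallyConstant_rankAtStalk

theorem fdim_opc_add (i j : ι) [Module.Finite A (P.X j)] [Module.Flat A (P.X j)]
    (x : PrimeSpectrum A) :
    fdim (Opc P i j) x + fibreRk (P.d i j).hom x = Module.rankAtStalk (P.X j) x := by
  let k := x.asIdeal.ResidueField
  rw [fdim, ← (cokerBC k (P.d i j).hom).finrank_eq, Module.rankAtStalk_eq]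
  exact Submodule.finrank_quotient_add_finrank _

theorem flat_opc_of_fibreRk_isLocallyConstant [IsReduced A] (i j : ι)
    [Module.FinitePresentation A (P.X j)] [Module.Flat A (P.X j)]
    (h : IsLocallyConstant (fibreRk (P.d i j).hom)) : Module.Flat A (Opc P i j) := by
  apply flat_of_fdim_isLocallyConstant
  refine IsLocallyConstant.iff_eventually_eq _ |>.2 fun x => ?_
  filter_upwards [h.eventually_eq x,
    (Module.isLocallyConstant_rankAtStalk (R := A) (M := P.X j)).eventually_eq x] with y hy hy'
  have := fdim_opc_add P i j x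
  have := fdim_opc_add P i j y
  omega

theorem flat_opc_of_fibreRk_minimal [IsLocalRing A] [IsReduced A] (i j : ι)
    [Module.Finite A (P.X j)] [Module.Flat A (P.X j)]
    (h : ∀ q : PrimeSpectrum A, q.asIdeal ∈ minimalPrimes A →
      fibreRk (P.d i j).hom q = fibreRk (P.d i j).hom (closedPoint A)) :
    Module.Flat A (Opc P i j) := by
  haveI := free_of_fdim_minimal (Opc P i j) fun q hq => by
    have := fdim_opc_add P i j q
    have := fdim_opc_add P i j (closedPoint A)
    have := h q hq
    have : Module.rankAtStalk (P.X j) q = Module.rankAtStalk (P.X j) (closedPoint A) :=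
      Module.rankAtStalk_eq_of_le_of_finite_of_flat _ (IsLocalRing.le_maximalIdeal q.isPrime.ne_top)
    omega
  infer_instance

end Groth.Agent.FlatCx

namespace Groth.Agent.FlatCx

variable {A : Type u} [CommRing A] {ι : Type} {c : ComplexShape ι}
  (P : HomologicalComplex (ModuleCat.{u} A) c)

theorem flat_opc_localization_iff (i j : ι) [Module.Finite A (P.X j)] (y : PrimeSpectrum A) :
    Module.Flat (Localization.AtPrime y.asIdeal)
        (Opc (CohIII.bcCx (algebraMap A (Localization.AtPrime y.asIdeal)) P) i j) ↔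
      y ∈ Module.freeLocus A (Opc P i j) := by
  rw [Module.mem_freeLocus_iff_tensor y (Localization.AtPrime y.asIdeal),
    Module.Flat.equiv_iff (opc_bc (Localization.AtPrime y.asIdeal) P i j).some]
  exact ⟨fun _ => Module.free_of_flat_of_isLocalRing, fun _ => inferInstance⟩

theorem preservesEpi_localization_iff (hP : ∀ m, Module.Finite A (P.X m) ∧ Module.Flat A (P.X m))
    (j : ι) (hc : c.prev (c.next j) = j) (y : PrimeSpectrum A) :
    (CohIII.TFun (CohIII.bcCx (algebraMap A (Localization.AtPrime y.asIdeal)) P) j).PreservesEpimorphisms ↔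
      y ∈ Module.freeLocus A (Opc P j (c.next j)) := by
  haveI := (hP (c.next j)).1
  rw [preservesEpi_iff_flat_opc _ j (flat_X_bc _ P fun m => (hP m).2) hc,
    flat_opc_localization_iff P _ _ y]

theorem preservesMono_localization_iff (hP : ∀ m, Module.Finite A (P.X m) ∧ Module.Flat A (P.X m))
    (j : ι) (y : PrimeSpectrum A) :
    (CohIII.TFun (CohIII.bcCx (algebraMap A (Localization.AtPrime y.asIdeal)) P) j).PreservesMonomorphisms ↔
      y ∈ Module.freeLocus A (Opc P (c.prev j) j) := by
  haveI := (hP j).1
  rw [preservesMono_iff_flat_opc (flat_X_bc _ P fun m => (hP m).2) rfl rfl,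
    flat_opc_localization_iff P _ _ y]

theorem bot_mem_freeLocus [IsDomain A] (W : Type u) [AddCommGroup W] [Module A W] :
    (⟨⊥, Ideal.isPrime_bot⟩ : PrimeSpectrum A) ∈ Module.freeLocus A W := by
  rw [Module.mem_freeLocus_iff_tensor _ (Localization.AtPrime (⊥ : Ideal A))]
  letI : Field (Localization.AtPrime (⊥ : Ideal A)) := by
    haveI : IsFractionRing A (Localization.AtPrime (⊥ : Ideal A)) := by
      have e : (⊥ : Ideal A).primeCompl = nonZeroDivisors A := by
        ext x; simp [Ideal.primeCompl, mem_nonZeroDivisors_iff_ne_zero]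
      show IsLocalization (nonZeroDivisors A) (Localization (⊥ : Ideal A).primeCompl)
      rw [← e]
      exact Localization.isLocalization
    exact IsFractionRing.toField A
  infer_instance

end Groth.Agent.FlatCx
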