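import Groth.Agent.FlatCx.BaseChange
import Groth.Agent.FlatCx.ExactLocus

/-!
# Homology of a complex under flat extension of scalars; elementwise criteria for opcycles
-/

set_option autoImplicit false

universe u

open CategoryTheory CategoryTheory.Limits TensorProduct MonoidalCategory

namespace Groth.Agent.FlatCx

variable {A : Type u} [CommRing A] (B : Type u) [CommRing B] [Algebra A B]
variable {ι : Type} {c : ComplexShape ι} (P : HomologicalComplex (ModuleCat.{u} A) c)

/-- Homology commutes with flat extension of scalars. -/
theorem homology_flatBC [Module.Flat A B] (j : ι) :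
    Nonempty ((CohIII.bcCx (algebraMap A B) P).homology j ≃ₗ[B] B ⊗[A] Hm P j) := by
  obtain ⟨φ, rfl⟩ : ∃ φ : A →+* B, ‹Algebra A B› = φ.toAlgebra :=
    ⟨algebraMap A B, Algebra.algebra_ext _ _ fun _ => rfl⟩
  letI := φ.toAlgebra
  let d := (P.d j (c.next j)).hom
  have hexZ : Function.Exact (Zc P j).subtype d.rangeRestrict := by
    rw [LinearMap.exact_iff, LinearMap.ker_rangeRestrict, Submodule.range_subtype]
  have hI : Function.Injective ((LinearMap.range d).subtype.lTensor B) :=
    Module.Flat.lTensor_preserves_injective_linearMap _ (Submodule.injective_subtype _)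
  have hZ : Function.Injective ((Zc P j).subtype.lTensor B) :=
    Module.Flat.lTensor_preserves_injective_linearMap _ (Submodule.injective_subtype _)
  let K := (CohIII.bcCx φ P).sc j
  let θ : B ⊗[A] Zc P j →ₗ[B] LinearMap.ker (d.baseChange B) :=
    ((Zc P j).subtype.baseChange B).codRestrict _ fun w => by
      rw [LinearMap.mem_ker, ← LinearMap.comp_apply, ← LinearMap.baseChange_comp,
        LinearMap.comp_ker_subtype]
      simp
  have hθ : Function.Bijective θ := by
    refine ⟨fun a b h => hZ (congrArg Subtype.val h), fun z => ?_⟩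
    have hz : d.rangeRestrict.lTensor B z.1 = 0 := by
      apply hI
      rw [map_zero, ← LinearMap.comp_apply, ← LinearMap.lTensor_comp]
      exact z.2
    obtain ⟨w, hw⟩ := ((lTensor_exact B hexZ d.surjective_rangeRestrict) z.1).1 hz
    exact ⟨w, Subtype.ext hw⟩
  refine ⟨K.moduleCatHomologyIso.toLinearEquiv.trans ((Submodule.Quotient.equiv _ _
    (LinearEquiv.ofBijective θ hθ) ?_).symm.trans (cokerBC B (bd P j)))⟩
  show (LinearMap.range ((bd P j).baseChange B)).map θ = LinearMap.range K.moduleCatToCycles
  rw [← LinearMap.range_comp]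
  congr 1
  apply LinearMap.ext
  intro x
  apply Subtype.ext
  show (Zc P j).subtype.baseChange B ((bd P j).baseChange B x) =
    (P.d (c.prev j) j).hom.baseChange B x
  rw [← LinearMap.comp_apply, ← LinearMap.baseChange_comp]
  rfl

/-- Mathlib's homology is the quotient of cycles by boundaries. -/
noncomputable def homologyHmEquiv (j : ι) : P.homology j ≃ₗ[A] Hm P j :=
  (P.sc j).moduleCatHomologyIso.toLinearEquiv

end Groth.Agent.FlatCx
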