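import Groth.Agent.FlatCx.Exact
import Mathlib.RingTheory.LocalRing.Module
import Mathlib.CategoryTheory.Linear.LinearFunctor

/-!
# Right exact `H_p(P ⊗ -)` is a tensor functor
-/

set_option autoImplicit false

universe u

open CategoryTheory CategoryTheory.Limits TensorProduct MonoidalCategory

namespace Groth.Agent.FlatCx

variable {A : Type u} [CommRing A]

theorem rTensor_injective_of_flat_quotient {N Q W : Type u} [AddCommGroup N] [Module A N]
    [AddCommGroup Q] [Module A Q] [AddCommGroup W] [Module A W] [Module.Flat A W]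
    {f : N →ₗ[A] Q} {g : Q →ₗ[A] W} (hf : Function.Injective f) (hex : Function.Exact f g)
    (hg : Function.Surjective g) (M : Type u) [AddCommGroup M] [Module A M] :
    Function.Injective (f.rTensor M) := by
  rw [← LinearMap.lTensor_inj_iff_rTensor_inj]
  let π := Finsupp.linearCombination A (id : M → M)
  exact lTensor_injective_of_exact_of_exact_of_rTensor_injective (LinearMap.exact_subtype_ker_map π)
    (Finsupp.linearCombination_id_surjective A M) hex hg
    (Module.Flat.rTensor_preserves_injective_linearMap _ (Submodule.injective_subtype _))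
    (Module.Flat.lTensor_preserves_injective_linearMap _ hf)

theorem flat_of_flat_quotient {N Q W : Type u} [AddCommGroup N] [Module A N]
    [AddCommGroup Q] [Module A Q] [AddCommGroup W] [Module A W] [Module.Flat A W] [Module.Flat A Q]
    {f : N →ₗ[A] Q} {g : Q →ₗ[A] W} (hf : Function.Injective f) (hex : Function.Exact f g)
    (hg : Function.Surjective g) : Module.Flat A N := by
  rw [Module.Flat.iff_lTensor_preserves_injective_linearMap]
  intro M' M _ _ _ _ φ hφ
  have h : (f.rTensor M) ∘ₗ (φ.lTensor N) = (φ.lTensor Q) ∘ₗ (f.rTensor M') := by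
    rw [LinearMap.rTensor_comp_lTensor, LinearMap.lTensor_comp_rTensor]
  refine Function.Injective.of_comp (f := f.rTensor M) ?_
  rw [← LinearMap.coe_comp, h, LinearMap.coe_comp]
  exact (Module.Flat.lTensor_preserves_injective_linearMap _ hφ).comp
    (rTensor_injective_of_flat_quotient hf hex hg M')

variable {ι : Type} {c : ComplexShape ι} (P : HomologicalComplex (ModuleCat.{u} A) c) (j : ι)

/-- A cycle of `P ⊗ M`, seen in the cycles object. -/
noncomputable def cyc (M : ModuleCat.{u} A) :
    LinearMap.ker (dT P M j (c.next j)) →ₗ[A] (CohIII.tensorObj P M).cycles j :=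
  ((CohIII.tensorObj P M).sc j).moduleCatCyclesIso.inv.hom

theorem iCycles_cyclesIso_inv (M : ModuleCat.{u} A) (z : LinearMap.ker (dT P M j (c.next j))) :
    (CohIII.tensorObj P M).iCycles j (cyc P j M z) = z.1 :=
  ShortComplex.moduleCatCyclesIso_inv_iCycles_apply ((CohIII.tensorObj P M).sc j) z

/-- The class of a cycle of `P ⊗ M`. -/
noncomputable def cls (M : ModuleCat.{u} A) :
    LinearMap.ker (dT P M j (c.next j)) →ₗ[A] CohIII.T P j M :=
  ((CohIII.tensorObj P M).homologyπ j).hom ∘ₗ cyc P j M

theorem cls_apply (M : ModuleCat.{u} A) (z : LinearMap.ker (dT P M j (c.next j))) :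
    cls P j M z = (CohIII.tensorObj P M).homologyπ j (cyc P j M z) := rfl

theorem cls_surjective (M : ModuleCat.{u} A) : Function.Surjective (cls P j M) := by
  intro h
  obtain ⟨x, rfl⟩ := homologyπ_surjective (CohIII.tensorObj P M) h
  refine ⟨⟨(CohIII.tensorObj P M).iCycles j x, d_iCycles _ (k := c.next j) x⟩, ?_⟩
  rw [cls_apply]
  congr 1
  apply iCycles_injective
  exact iCycles_cyclesIso_inv P j M _

theorem cls_eq_zero_iff (M : ModuleCat.{u} A) (z : LinearMap.ker (dT P M j (c.next j))) :
    cls P j M z = 0 ↔ z.1 ∈ LinearMap.range (dT P M (c.prev j) j) := by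
  rw [cls_apply, homologyπ_eq_zero_iff (CohIII.tensorObj P M) rfl, iCycles_cyclesIso_inv]
  rfl

theorem TFun_map_cls {M N : ModuleCat.{u} A} (g : M ⟶ N) (z : LinearMap.ker (dT P M j (c.next j))) :
    (CohIII.TFun P j).map g (cls P j M z) =
      cls P j N ⟨g.hom.lTensor (P.X j) z.1, by
        rw [LinearMap.mem_ker, dT_comm, z.2, map_zero]⟩ := by
  show HomologicalComplex.homologyMap (CohIII.tensorMap P g) j (cls P j M z) = cls P j N _
  rw [cls_apply, cls_apply]
  rw [homologyMap_homologyπ]
  congr 1
  apply iCycles_injective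
  rw [iCycles_cyclesMap, iCycles_cyclesIso_inv, iCycles_cyclesIso_inv]
  rfl

instance instAdditiveTFun : (CohIII.TFun P j).Additive where
  map_add {M N f g} := by
    apply ModuleCat.hom_ext
    ext h
    obtain ⟨z, rfl⟩ := cls_surjective P j M h
    show (CohIII.TFun P j).map (f + g) (cls P j M z) =
      (CohIII.TFun P j).map f (cls P j M z) + (CohIII.TFun P j).map g (cls P j M z)
    rw [TFun_map_cls, TFun_map_cls, TFun_map_cls]
    refine Eq.trans ?_ (map_add (cls P j N) _ _)
    exact congrArg (cls P j N) (Subtype.ext (by simp [LinearMap.lTensor_add]))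

instance instLinearTFun : (CohIII.TFun P j).Linear A where
  map_smul {M N} f a := by
    apply ModuleCat.hom_ext
    ext h
    obtain ⟨z, rfl⟩ := cls_surjective P j M h
    show (CohIII.TFun P j).map (a • f) (cls P j M z) = a • (CohIII.TFun P j).map f (cls P j M z)
    rw [TFun_map_cls, TFun_map_cls]
    refine Eq.trans ?_ (map_smul (cls P j N) _ _)
    exact congrArg (cls P j N) (Subtype.ext (by simp [LinearMap.lTensor_smul]))

/-- The cycles of `P` in degree `j`. -/
noncomputable abbrev Zc : Submodule A (P.X j) := LinearMap.ker (P.d j (c.next j)).hom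

/-- The differential into the cycles. -/
noncomputable def bd : P.X (c.prev j) →ₗ[A] Zc P j :=
  (P.d (c.prev j) j).hom.codRestrict _ fun x => congr($(P.d_comp_d (c.prev j) j (c.next j)) x)

/-- The homology of `P` in degree `j`. -/
noncomputable abbrev Hm : Type u := Zc P j ⧸ LinearMap.range (bd P j)

/-- The canonical map from `Z_j ⊗ M` to the cycles of `P ⊗ M`. -/
noncomputable def incl (M : ModuleCat.{u} A) :
    Zc P j ⊗[A] M →ₗ[A] LinearMap.ker (dT P M j (c.next j)) :=
  ((Zc P j).subtype.rTensor M).codRestrict _ fun w => by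
    rw [LinearMap.mem_ker, dT, ← LinearMap.comp_apply, ← LinearMap.rTensor_comp,
      LinearMap.comp_ker_subtype, LinearMap.rTensor_zero]
    rfl

/-- The map `Z_j ⊗ M → H_j(P ⊗ M)`. -/
noncomputable def psi (M : ModuleCat.{u} A) : Zc P j ⊗[A] M →ₗ[A] CohIII.T P j M :=
  cls P j M ∘ₗ incl P j M

theorem psi_bd (M : ModuleCat.{u} A) (v : P.X (c.prev j) ⊗[A] M) :
    psi P j M ((bd P j).rTensor M v) = 0 := by
  rw [psi, LinearMap.comp_apply, cls_eq_zero_iff]
  refine ⟨v, ?_⟩
  show _ = (Zc P j).subtype.rTensor M ((bd P j).rTensor M v)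
  rw [← LinearMap.comp_apply, ← LinearMap.rTensor_comp]
  rfl

theorem TFun_map_psi {M N : ModuleCat.{u} A} (g : M ⟶ N) (w : Zc P j ⊗[A] M) :
    (CohIII.TFun P j).map g (psi P j M w) = psi P j N (g.hom.lTensor _ w) := by
  rw [psi, LinearMap.comp_apply, TFun_map_cls]
  refine congrArg (cls P j N) (Subtype.ext ?_)
  show g.hom.lTensor (P.X j) ((Zc P j).subtype.rTensor M w) =
    (Zc P j).subtype.rTensor N (g.hom.lTensor _ w)
  rw [← LinearMap.comp_apply, LinearMap.lTensor_comp_rTensor, ← LinearMap.rTensor_comp_lTensor,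
    LinearMap.comp_apply]

/-- The comparison map `H_j(P) ⊗ M → H_j(P ⊗ M)`. -/
noncomputable def comparison (M : ModuleCat.{u} A) : Hm P j ⊗[A] M →ₗ[A] CohIII.T P j M :=
  TensorProduct.lift <| Submodule.liftQ _ (TensorProduct.curry (psi P j M)) (by
    rintro _ ⟨v, rfl⟩
    apply LinearMap.ext
    intro m
    exact psi_bd P j M (v ⊗ₜ m))

theorem comparison_mkQ (M : ModuleCat.{u} A) (w : Zc P j ⊗[A] M) :
    comparison P j M ((LinearMap.range (bd P j)).mkQ.rTensor M w) = psi P j M w := by
  induction w with
  | zero => simp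
  | tmul z m => simp [comparison]
  | add x y hx hy => simp only [map_add, hx, hy]

theorem comparison_natural {M N : ModuleCat.{u} A} (g : M ⟶ N) (w : Hm P j ⊗[A] M) :
    comparison P j N (g.hom.lTensor _ w) = (CohIII.TFun P j).map g (comparison P j M w) := by
  obtain ⟨v, rfl⟩ := LinearMap.rTensor_surjective M (Submodule.mkQ_surjective _) w
  rw [comparison_mkQ, TFun_map_psi, ← comparison_mkQ, ← LinearMap.comp_apply (g.hom.lTensor _),
    LinearMap.lTensor_comp_rTensor, ← LinearMap.rTensor_comp_lTensor, LinearMap.comp_apply]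

theorem comparison_bijective (hP : ∀ m, Module.Flat A (P.X m))
    (hW : Module.Flat A (Opc P j (c.next j))) (M : ModuleCat.{u} A) :
    Function.Bijective (comparison P j M) := by
  haveI := hP
  let d := (P.d j (c.next j)).hom
  have hexI : Function.Exact (LinearMap.range d).subtype (opq P j (c.next j)) :=
    LinearMap.exact_subtype_mkQ _
  have hI := rTensor_injective_of_flat_quotient (Submodule.injective_subtype _) hexI
    (Submodule.mkQ_surjective _) M
  haveI : Module.Flat A (LinearMap.range d) :=
    flat_of_flat_quotient (Submodule.injective_subtype _) hexI (Submodule.mkQ_surjective _)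
  have hexZ : Function.Exact (Zc P j).subtype d.rangeRestrict := by
    rw [LinearMap.exact_iff, LinearMap.ker_rangeRestrict, Submodule.range_subtype]
  have hZ := rTensor_injective_of_flat_quotient (Submodule.injective_subtype _) hexZ
    d.surjective_rangeRestrict M
  constructor
  · rw [injective_iff_map_eq_zero]
    intro w hw
    obtain ⟨v, rfl⟩ := LinearMap.rTensor_surjective M (Submodule.mkQ_surjective _) w
    rw [comparison_mkQ, psi, LinearMap.comp_apply, cls_eq_zero_iff] at hw
    obtain ⟨u', hu⟩ := hw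
    have : (bd P j).rTensor M u' = v := by
      apply hZ
      rw [← LinearMap.comp_apply, ← LinearMap.rTensor_comp]
      exact hu
    rw [← this, ← LinearMap.comp_apply, ← LinearMap.rTensor_comp, LinearMap.range_mkQ_comp,
      LinearMap.rTensor_zero]
    rfl
  · intro h
    obtain ⟨z, rfl⟩ := cls_surjective P j M h
    have hz : d.rangeRestrict.rTensor M z.1 = 0 := by
      apply hI
      rw [map_zero, ← LinearMap.comp_apply, ← LinearMap.rTensor_comp]
      exact z.2
    obtain ⟨w, hw⟩ := ((rTensor_exact M hexZ d.surjective_rangeRestrict) z.1).1 hz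
    refine ⟨(LinearMap.range (bd P j)).mkQ.rTensor M w, ?_⟩
    rw [comparison_mkQ]
    exact congrArg (cls P j M) (Subtype.ext hw)

/-- If the next opcycles are flat then `H_j(P ⊗ -)` is tensoring with `H_j(P)`. -/
noncomputable def tensorIso (hP : ∀ m, Module.Flat A (P.X m))
    (hW : Module.Flat A (Opc P j (c.next j))) :
    tensorLeft (ModuleCat.of A (Hm P j)) ≅ CohIII.TFun P j :=
  NatIso.ofComponents
    (fun M => (LinearEquiv.ofBijective (comparison P j M) (comparison_bijective P j hP hW M)).toModuleIso)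
    (fun {M N} g => by
      apply ModuleCat.hom_ext
      apply LinearMap.ext
      intro w
      exact comparison_natural P j g w)

theorem tensorLeft_preservesEpi (N : ModuleCat.{u} A) :
    (tensorLeft N).PreservesEpimorphisms :=
  ⟨fun {M M'} g hg => (ModuleCat.epi_iff_surjective _).2
    (LinearMap.lTensor_surjective N ((ModuleCat.epi_iff_surjective g).1 hg))⟩

theorem tensorLeft_preservesMono_iff (N : ModuleCat.{u} A) :
    (tensorLeft N).PreservesMonomorphisms ↔ Module.Flat A N := by
  constructor
  · intro h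
    rw [Module.Flat.iff_lTensor_preserves_injective_linearMap]
    intro M M' _ _ _ _ g hg
    haveI : Mono (ModuleCat.ofHom g) := (ModuleCat.mono_iff_injective _).2 hg
    exact (ModuleCat.mono_iff_injective _).1 (h.preserves (ModuleCat.ofHom g))
  · intro h
    exact ⟨fun {M M'} g hg => (ModuleCat.mono_iff_injective _).2
      (Module.Flat.lTensor_preserves_injective_linearMap g.hom
        ((ModuleCat.mono_iff_injective g).1 hg))⟩

theorem preservesEpi_iff_flat_opc (hP : ∀ m, Module.Flat A (P.X m))
    (hc : c.prev (c.next j) = j) :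
    (CohIII.TFun P j).PreservesEpimorphisms ↔ Module.Flat A (Opc P j (c.next j)) := by
  rw [preservesEpi_iff_preservesMono_next hP rfl rfl hc rfl,
    preservesMono_iff_flat_opc hP hc rfl]

theorem preservesEpi_iff_exists_tensor (hP : ∀ m, Module.Flat A (P.X m))
    (hc : c.prev (c.next j) = j) :
    (CohIII.TFun P j).PreservesEpimorphisms ↔
      ∃ N : ModuleCat.{u} A, Nonempty (CohIII.TFun P j ≅ tensorLeft N) := by
  refine ⟨fun h => ⟨_, ⟨(tensorIso P j hP ((preservesEpi_iff_flat_opc P j hP hc).1 h)).symm⟩⟩, ?_⟩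
  rintro ⟨N, ⟨e⟩⟩
  haveI := tensorLeft_preservesEpi N
  exact Functor.PreservesEpimorphisms.of_iso e.symm

theorem preservesMono_iff_flat_Hm (hP : ∀ m, Module.Flat A (P.X m))
    (hW : Module.Flat A (Opc P j (c.next j))) :
    (CohIII.TFun P j).PreservesMonomorphisms ↔ Module.Flat A (Hm P j) := by
  rw [← Functor.PreservesMonomorphisms.iso_iff (tensorIso P j hP hW)]
  exact tensorLeft_preservesMono_iff (ModuleCat.of A (Hm P j))

/-- `H_j(P ⊗ A)` is `H_j(P)` when the next opcycles are flat. -/
noncomputable def HmEquiv (hP : ∀ m, Module.Flat A (P.X m))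
    (hW : Module.Flat A (Opc P j (c.next j))) :
    Hm P j ≃ₗ[A] (CohIII.TFun P j).obj (ModuleCat.of A A) :=
  (TensorProduct.rid A _).symm ≪≫ₗ
    LinearEquiv.ofBijective (comparison P j (ModuleCat.of A A))
      (comparison_bijective P j hP hW (ModuleCat.of A A))

theorem exact_iff_exists_flat_tensor (hP : ∀ m, Module.Flat A (P.X m))
    (hc : c.prev (c.next j) = j) :
    ((CohIII.TFun P j).PreservesMonomorphisms ∧ (CohIII.TFun P j).PreservesEpimorphisms) ↔
      ∃ N : ModuleCat.{u} A, Module.Flat A N ∧ Nonempty (CohIII.TFun P j ≅ tensorLeft N) := by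
  constructor
  · rintro ⟨hm, he⟩
    have hW := (preservesEpi_iff_flat_opc P j hP hc).1 he
    exact ⟨ModuleCat.of A (Hm P j), (preservesMono_iff_flat_Hm P j hP hW).1 hm,
      ⟨(tensorIso P j hP hW).symm⟩⟩
  · rintro ⟨N, hN, ⟨e⟩⟩
    haveI := (tensorLeft_preservesMono_iff N).2 hN
    haveI := tensorLeft_preservesEpi N
    exact ⟨Functor.PreservesMonomorphisms.of_iso e.symm, Functor.PreservesEpimorphisms.of_iso e.symm⟩

theorem exact_iff_preservesEpi_and_flat (hP : ∀ m, Module.Flat A (P.X m))
    (hc : c.prev (c.next j) = j) :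
    ((CohIII.TFun P j).PreservesMonomorphisms ∧ (CohIII.TFun P j).PreservesEpimorphisms) ↔
      ((CohIII.TFun P j).PreservesEpimorphisms ∧
        Module.Flat A ((CohIII.TFun P j).obj (ModuleCat.of A A))) := by
  constructor
  · rintro ⟨hm, he⟩
    have hW := (preservesEpi_iff_flat_opc P j hP hc).1 he
    exact ⟨he, (Module.Flat.equiv_iff (HmEquiv P j hP hW)).1
      ((preservesMono_iff_flat_Hm P j hP hW).1 hm)⟩
  · rintro ⟨he, hf⟩
    have hW := (preservesEpi_iff_flat_opc P j hP hc).1 he
    exact ⟨(preservesMono_iff_flat_Hm P j hP hW).2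
      ((Module.Flat.equiv_iff (HmEquiv P j hP hW)).2 hf), he⟩

end Groth.Agent.FlatCx
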