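import Groth.Agent.FlatCx.Artinian

/-!
# Lengths of `H_p(P ⊗ M)` over an Artinian local ring
-/

set_option autoImplicit false

universe u

open CategoryTheory CategoryTheory.Limits TensorProduct MonoidalCategory IsLocalRing

namespace Groth.Agent.FlatCx

variable {A : Type u} [CommRing A] {ι : Type} {c : ComplexShape ι}
  (P : HomologicalComplex (ModuleCat.{u} A) c) (j : ι)

/-- The map induced on `H_j(P ⊗ -)` by a linear map. -/
noncomputable abbrev Tmap {M N : ModuleCat.{u} A} (g : M ⟶ N) :
    CohIII.T P j M →ₗ[A] CohIII.T P j N :=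
  ((CohIII.TFun P j).map g).hom

theorem Tmap_exact (hP : ∀ m, Module.Flat A (P.X m)) {M' M M'' : ModuleCat.{u} A}
    (f : M' ⟶ M) (g : M ⟶ M'') (hf : Function.Injective f.hom)
    (hex : Function.Exact f.hom g.hom) (hg : Function.Surjective g.hom) :
    Function.Exact (Tmap P j f) (Tmap P j g) := by
  haveI := hP
  intro h
  obtain ⟨z, rfl⟩ := cls_surjective P j M h
  constructor
  · intro h0
    replace h0 : (CohIII.TFun P j).map g (cls P j M z) = 0 := h0
    rw [TFun_map_cls] at h0
    obtain ⟨v, hv⟩ := (cls_eq_zero_iff P j M'' _).1 h0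
    obtain ⟨v', rfl⟩ := LinearMap.lTensor_surjective (P.X (c.prev j)) hg v
    rw [dT_comm] at hv
    have : g.hom.lTensor (P.X j) (z.1 - dT P M (c.prev j) j v') = 0 := by
      rw [map_sub, hv, sub_eq_zero]
    obtain ⟨w, hw⟩ := ((lTensor_exact (P.X j) hex hg) _).1 this
    have hw0 : dT P M' j (c.next j) w = 0 := by
      apply Module.Flat.lTensor_preserves_injective_linearMap (M := P.X (c.next j)) f.hom hf
      rw [← dT_comm, hw, map_sub, dT_dT, sub_zero, z.2, map_zero]
    refine ⟨cls P j M' ⟨w, hw0⟩, ?_⟩
    show (CohIII.TFun P j).map f (cls P j M' ⟨w, hw0⟩) = _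
    rw [TFun_map_cls]
    apply sub_eq_zero.1
    refine Eq.trans (map_sub (cls P j M) _ _).symm ((cls_eq_zero_iff P j M _).2 ?_)
    refine ⟨-v', ?_⟩
    show dT P M (c.prev j) j (-v') = f.hom.lTensor (P.X j) w - z.1
    rw [hw, map_neg]; abel
  · rintro ⟨y, hy⟩
    rw [← hy]
    obtain ⟨x, rfl⟩ := cls_surjective P j M' y
    show (CohIII.TFun P j).map g ((CohIII.TFun P j).map f (cls P j M' x)) = 0
    rw [TFun_map_cls, TFun_map_cls]
    refine (cls_eq_zero_iff P j M'' _).2 ⟨0, ?_⟩
    show dT P M'' (c.prev j) j 0 = g.hom.lTensor (P.X j) (f.hom.lTensor (P.X j) x.1)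
    rw [map_zero, ← LinearMap.comp_apply, ← LinearMap.lTensor_comp, hex.linearMap_comp_eq_zero,
      LinearMap.lTensor_zero]
    rfl

theorem enat_cancel {a b x y : ℕ∞} (ha : a ≠ ⊤) (hb : b ≠ ⊤) (h : a + b = x + a + (b + y)) :
    x = 0 ∧ y = 0 := by
  obtain ⟨a, rfl⟩ := ENat.ne_top_iff_exists.1 ha
  obtain ⟨b, rfl⟩ := ENat.ne_top_iff_exists.1 hb
  induction x <;> induction y <;> simp at h ⊢
  norm_cast at h
  omega

theorem length_le_add_of_exact {X Y Z : Type u} [AddCommGroup X] [Module A X] [AddCommGroup Y]
    [Module A Y] [AddCommGroup Z] [Module A Z] (φ : X →ₗ[A] Y) (ψ : Y →ₗ[A] Z)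
    (hex : Function.Exact φ ψ) :
    Module.length A Y ≤ Module.length A X + Module.length A Z ∧
      (Module.length A Y = Module.length A X + Module.length A Z → Module.length A Y ≠ ⊤ →
        Function.Injective φ ∧ Function.Surjective ψ) := by
  have e : Module.length A Y = Module.length A (LinearMap.range φ) + Module.length A (LinearMap.range ψ) :=
    Module.length_eq_add_of_exact (LinearMap.range φ).subtype ψ.rangeRestrict
      (Submodule.injective_subtype _) ψ.surjective_rangeRestrict
      (by rw [LinearMap.exact_iff, LinearMap.ker_rangeRestrict, Submodule.range_subtype]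
          exact hex.linearMap_ker_eq)
  have eX := Module.length_eq_add_of_exact (LinearMap.ker φ).subtype φ.rangeRestrict
    (Submodule.injective_subtype _) φ.surjective_rangeRestrict
    (by rw [LinearMap.exact_iff, LinearMap.ker_rangeRestrict, Submodule.range_subtype])
  have eZ := Module.length_eq_add_of_exact (LinearMap.range ψ).subtype (LinearMap.range ψ).mkQ
    (Submodule.injective_subtype _) (Submodule.mkQ_surjective _) (LinearMap.exact_subtype_mkQ _)
  refine ⟨?_, fun h hfin => ?_⟩
  · rw [e, eX, eZ]
    exact add_le_add (le_add_self) (le_self_add)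
  · rw [e] at hfin
    rw [e, eX, eZ] at h
    obtain ⟨h1, h2⟩ := WithTop.add_ne_top.1 hfin
    have h3 : Module.length A (LinearMap.ker φ) = 0 ∧
        Module.length A (Z ⧸ LinearMap.range ψ) = 0 := by
      exact enat_cancel h1 h2 h
    rw [Module.length_eq_zero_iff, Module.length_eq_zero_iff] at h3
    obtain ⟨h4, h5⟩ := h3
    exact ⟨LinearMap.ker_eq_bot.1 (Submodule.subsingleton_iff_eq_bot.1 h4),
      LinearMap.range_eq_top.1 (Submodule.Quotient.subsingleton_iff.1 h5)⟩

theorem T_length_zero (hP : ∀ m, Module.Flat A (P.X m)) (M : ModuleCat.{u} A) [Subsingleton M] :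
    Module.length A (CohIII.T P j M) = 0 := by
  haveI : Subsingleton (CohIII.T P j M) := subsingleton_of_forall_eq 0 fun a => by
    obtain ⟨z, rfl⟩ := cls_surjective P j M a
    rw [cls_eq_zero_iff]
    have : Subsingleton (P.X j ⊗[A] M) := inferInstance
    exact ⟨0, this.elim _ _⟩
  exact Module.length_eq_zero

variable [IsLocalRing A]

theorem T_length_congr {M N : ModuleCat.{u} A} (e : M ≅ N) :
    Module.length A (CohIII.T P j M) = Module.length A (CohIII.T P j N) :=
  ((CohIII.TFun P j).mapIso e).toLinearEquiv.length_eq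

/-- The common shape of a step in the composition series. -/
theorem T_length_step (hP : ∀ m, Module.Flat A (P.X m)) (M : Type u) [AddCommGroup M] [Module A M]
    (N : Submodule A M) [IsSimpleModule A (M ⧸ N)] :
    Module.length A M = Module.length A N + 1 ∧
    Module.length A (CohIII.T P j (ModuleCat.of A M)) ≤
      Module.length A (CohIII.T P j (ModuleCat.of A N)) +
        Module.length A (CohIII.T P j (ModuleCat.of A (ResidueField A))) ∧
    ((CohIII.TFun P j).PreservesMonomorphisms → (CohIII.TFun P j).PreservesEpimorphisms →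
      Module.length A (CohIII.T P j (ModuleCat.of A M)) =
        Module.length A (CohIII.T P j (ModuleCat.of A N)) +
          Module.length A (CohIII.T P j (ModuleCat.of A (ResidueField A)))) := by
  obtain ⟨I, hI, ⟨e⟩⟩ := isSimpleModule_iff_quot_maximal.1 (inferInstance : IsSimpleModule A (M ⧸ N))
  obtain rfl : I = maximalIdeal A := IsLocalRing.eq_maximalIdeal hI
  let g : M →ₗ[A] ResidueField A := e.toLinearMap ∘ₗ N.mkQ
  have hg : Function.Surjective g := e.surjective.comp (Submodule.mkQ_surjective _)
  have hker : LinearMap.ker g = N := by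
    show LinearMap.ker (e.toLinearMap ∘ₗ N.mkQ) = N
    rw [LinearMap.ker_comp, LinearEquiv.ker, Submodule.comap_bot, Submodule.ker_mkQ]
  have hex : Function.Exact N.subtype g := by
    rw [LinearMap.exact_iff, hker, Submodule.range_subtype]
  have hT := Tmap_exact P j hP (ModuleCat.ofHom N.subtype) (ModuleCat.ofHom g) N.injective_subtype
    hex hg
  refine ⟨?_, (length_le_add_of_exact _ _ hT).1, fun hm he => ?_⟩
  · rw [Module.length_eq_add_of_exact N.subtype N.mkQ N.injective_subtype
      (Submodule.mkQ_surjective _) (LinearMap.exact_subtype_mkQ N),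
      Module.length_eq_one A (M ⧸ N)]
  · refine Module.length_eq_add_of_exact (Tmap P j (ModuleCat.ofHom N.subtype))
      (Tmap P j (ModuleCat.ofHom g)) ?_ ?_ hT
    · haveI : Mono (ModuleCat.ofHom N.subtype) :=
        (ModuleCat.mono_iff_injective _).2 N.injective_subtype
      exact (ModuleCat.mono_iff_injective _).1 (hm.preserves _)
    · haveI : Epi (ModuleCat.ofHom g) := (ModuleCat.epi_iff_surjective _).2 hg
      exact (ModuleCat.epi_iff_surjective _).1 (he.preserves _)

theorem T_length_le_mul (hP : ∀ m, Module.Flat A (P.X m)) {X : Type u} [AddCommGroup X] [Module A X]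
    (h : IsFiniteLength A X) :
    Module.length A (CohIII.T P j (ModuleCat.of A X)) ≤
        Module.length A (CohIII.T P j (ModuleCat.of A (ResidueField A))) * Module.length A X ∧
      ((CohIII.TFun P j).PreservesMonomorphisms → (CohIII.TFun P j).PreservesEpimorphisms →
        Module.length A (CohIII.T P j (ModuleCat.of A X)) =
          Module.length A (CohIII.T P j (ModuleCat.of A (ResidueField A))) * Module.length A X) := by
  induction h with
  | @of_subsingleton M _ _ _ =>
    rw [Module.length_eq_zero (R := A) (M := M), mul_zero,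
      T_length_zero P j hP (ModuleCat.of A M)]
    exact ⟨le_rfl, fun _ _ => rfl⟩
  | @of_simple_quotient M _ _ N _ _ ih =>
    obtain ⟨h1, h2, h3⟩ := T_length_step P j hP M N
    rw [h1, mul_add, mul_one]
    exact ⟨le_trans h2 (add_le_add ih.1 le_rfl), fun hm he => by rw [h3 hm he, ih.2 hm he]⟩

variable [IsArtinianRing A]

theorem exact_of_length_eq (hP : ∀ m, Module.Flat A (P.X m)) (hc : c.prev (c.next j) = j)
    (hd : Module.length A (CohIII.T P j (ModuleCat.of A (ResidueField A))) ≠ ⊤)
    (hj : Module.length A (CohIII.T P j (ModuleCat.of A A)) =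
      Module.length A (CohIII.T P j (ModuleCat.of A (ResidueField A))) * Module.length A A) :
    (CohIII.TFun P j).PreservesMonomorphisms ∧ (CohIII.TFun P j).PreservesEpimorphisms := by
  let m := maximalIdeal A
  haveI : IsSimpleModule A (A ⧸ m) :=
    isSimpleModule_iff_quot_maximal.2 ⟨m, inferInstance, ⟨LinearEquiv.refl A _⟩⟩
  have hfin : ∀ (X : Type u) [AddCommGroup X] [Module A X], IsFiniteLength A X →
      Module.length A (CohIII.T P j (ModuleCat.of A X)) ≠ ⊤ := fun X _ _ hX =>
    ne_top_of_le_ne_top (WithTop.mul_ne_top hd (Module.length_ne_top_iff.2 hX))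
      (T_length_le_mul P j hP hX).1
  have hflA : IsFiniteLength A A :=
    isFiniteLength_iff_isNoetherian_isArtinian.2 ⟨inferInstance, inferInstance⟩
  have hflm : IsFiniteLength A m := hflA.of_injective m.injective_subtype
  have hT := Tmap_exact P j hP (ModuleCat.ofHom m.subtype)
    (ModuleCat.ofHom (Algebra.linearMap A (ResidueField A)))
    m.injective_subtype (LinearMap.exact_subtype_mkQ m) Ideal.Quotient.mk_surjective
  obtain ⟨hle, heq⟩ := length_le_add_of_exact _ _ hT
  have hlA : Module.length A A = Module.length A m + 1 := by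
    rw [Module.length_eq_add_of_exact m.subtype m.mkQ m.injective_subtype
      (Submodule.mkQ_surjective _) (LinearMap.exact_subtype_mkQ m), Module.length_eq_one A (A ⧸ m)]
  obtain ⟨hinj, hsurj⟩ := heq (le_antisymm hle (by
    rw [hj, hlA, mul_add, mul_one]
    exact add_le_add (T_length_le_mul P j hP hflm).1 le_rfl)) (hfin A hflA)
  have he : (CohIII.TFun P j).PreservesEpimorphisms :=
    (preservesEpi_iff_surjective_residue_artinian hP hc).2 hsurj
  have hW := (preservesEpi_iff_flat_opc P j hP hc).1 he
  refine ⟨(preservesMono_iff_flat_Hm P j hP hW).2 (flat_of_residue_injective _ ?_), he⟩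
  intro x y hxy
  apply (comparison_bijective P j hP hW (ModuleCat.of A m)).1
  apply hinj
  have n1 := comparison_natural P j (ModuleCat.ofHom m.subtype)
  show (CohIII.TFun P j).map (ModuleCat.ofHom m.subtype) _ =
    (CohIII.TFun P j).map (ModuleCat.ofHom m.subtype) _
  rw [← n1, ← n1]
  exact congrArg _ hxy

end Groth.Agent.FlatCx
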