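import Groth.Agent.FlatCx.Exact
import Mathlib.RingTheory.Spectrum.Prime.FreeLocus
import Mathlib.RingTheory.Finiteness.Projective
import Mathlib.LinearAlgebra.Matrix.Rank
import Mathlib.LinearAlgebra.Matrix.NonsingularInverse
import Mathlib.RingTheory.Flat.EquationalCriterion
import Mathlib.Topology.Semicontinuity.Basic

/-!
# Semicontinuity of the dimensions of the fibre homology
-/

set_option autoImplicit false

universe u

open CategoryTheory CategoryTheory.Limits TensorProduct

namespace Groth.Agent.FlatCx

variable {A : Type u} [CommRing A]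

/-- The rank at a point of a linear map. -/
noncomputable def fibreRk {P Q : Type u} [AddCommGroup P] [Module A P] [AddCommGroup Q] [Module A Q]
    (f : P →ₗ[A] Q) (x : PrimeSpectrum A) : ℕ :=
  Module.finrank x.asIdeal.ResidueField (LinearMap.range (f.baseChange x.asIdeal.ResidueField))

theorem isOpen_le_fibreRk {P Q : Type u} [AddCommGroup P] [Module A P] [AddCommGroup Q] [Module A Q]
    [Module.Finite A Q] [Module.Projective A Q] (f : P →ₗ[A] Q) (r : ℕ) :
    IsOpen {x : PrimeSpectrum A | r ≤ fibreRk f x} := by
  classical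
  obtain ⟨n, s, Φ, -, -, hs⟩ := Module.Finite.exists_comp_eq_id_of_projective A Q
  rw [isOpen_iff_mem_nhds]
  intro x hx
  let κ := x.asIdeal.ResidueField
  let S : Set (κ ⊗[A] Q) := Set.range fun p : P => (1 : κ) ⊗ₜ[A] f p
  have hspan : Submodule.span κ S = LinearMap.range (f.baseChange κ) := by
    apply le_antisymm
    · rw [Submodule.span_le]; rintro _ ⟨p, rfl⟩; exact ⟨1 ⊗ₜ p, by simp⟩
    · rintro _ ⟨w, rfl⟩
      induction w with
      | zero => simp
      | tmul a p =>
        have : a ⊗ₜ[A] f p = a • ((1 : κ) ⊗ₜ[A] f p) := by simp [TensorProduct.smul_tmul']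
        rw [LinearMap.baseChange_tmul, this]
        exact Submodule.smul_mem _ _ (Submodule.subset_span ⟨p, rfl⟩)
      | add u v hu hv => rw [map_add]; exact Submodule.add_mem _ hu hv
  obtain ⟨t, htS, htspan, hli⟩ := exists_linearIndependent κ S
  have hfin : t.Finite := hli.setFinite
  haveI := hfin.fintype
  have hcard : r ≤ Fintype.card t := by
    have h1 := finrank_span_eq_card hli
    rw [Subtype.range_coe] at h1
    rw [← h1, htspan, hspan]; exact hx
  let e : Fin r ↪ t := (Fin.castLEEmb hcard).trans (Fintype.equivFin t).symm.toEmbedding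
  choose p hp using fun b => htS (e b).2
  let ev : κ ⊗[A] Q →ₗ[κ] (Fin n → κ) :=
    LinearMap.liftBaseChange κ (((Algebra.linearMap A κ).compLeft (Fin n)).comp Φ)
  have hev : ∀ q a, ev (1 ⊗ₜ q) a = algebraMap A κ (Φ q a) := fun q a => by
    simp [ev]
  have hinj : Function.Injective ev := by
    let σ : (Fin n → κ) →ₗ[κ] κ ⊗[A] Q :=
      Fintype.linearCombination κ (fun a => (1 : κ) ⊗ₜ[A] s (Pi.single a 1))
    have hσ : σ ∘ₗ ev = LinearMap.id := by
      apply TensorProduct.AlgebraTensorModule.curry_injective
      apply LinearMap.ext_ring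
      apply LinearMap.ext; intro q
      simp only [TensorProduct.AlgebraTensorModule.curry_apply, LinearMap.restrictScalars_apply,
        TensorProduct.curry_apply, LinearMap.comp_apply, LinearMap.id_apply, σ,
        Fintype.linearCombination_apply, hev]
      calc ∑ a, algebraMap A κ (Φ q a) • ((1 : κ) ⊗ₜ[A] s (Pi.single a 1))
          = (1 : κ) ⊗ₜ[A] ∑ a, Φ q a • s (Pi.single a 1) := by
            rw [TensorProduct.tmul_sum]
            refine Finset.sum_congr rfl fun a _ => ?_
            rw [algebraMap_smul, TensorProduct.tmul_smul]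
        _ = (1 : κ) ⊗ₜ[A] q := by
            congr 1
            simp only [← map_smul, ← map_sum]
            rw [← pi_eq_sum_univ' (Φ q)]
            exact congr($hs q)
    exact Function.HasLeftInverse.injective ⟨σ, fun a => congr($hσ a)⟩
  let M : Matrix (Fin n) (Fin r) κ := fun a b => algebraMap A κ (Φ (f (p b)) a)
  have hcols : LinearIndependent κ M.col := by
    have h1 : LinearIndependent κ (fun b => ev ((e b : t) : κ ⊗[A] Q)) :=
      (hli.comp e e.injective).map' ev (LinearMap.ker_eq_bot.2 hinj)
    have h2 : (fun b => ev ((e b : t) : κ ⊗[A] Q)) = M.col := by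
      funext b a; rw [← hp b, hev]; rfl
    rwa [h2] at h1
  have hrow : Module.finrank κ (Submodule.span κ (Set.range M.row)) = r := by
    rw [← Matrix.rank_eq_finrank_span_row, Matrix.rank_eq_finrank_span_cols,
      finrank_span_eq_card hcols, Fintype.card_fin]
  obtain ⟨t', ht'S, ht'span, hli'⟩ := exists_linearIndependent κ (Set.range M.row)
  haveI := hli'.setFinite.fintype
  have hcard' : Fintype.card t' = r := by
    have h1 := finrank_span_eq_card hli'
    rw [Subtype.range_coe] at h1
    rw [← h1, ht'span, hrow]
  let e' : Fin r ≃ t' := (finCongr hcard'.symm).trans (Fintype.equivFin t').symm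
  choose row hrow' using fun b => ht'S (e' b).2
  let D : Matrix (Fin r) (Fin r) A := fun a b => Φ (f (p b)) (row a)
  have hD : IsUnit (D.map (algebraMap A κ)) := by
    rw [← Matrix.linearIndependent_rows_iff_isUnit]
    have h1 := hli'.comp e' e'.injective
    have h2 : ((fun a : t' => (a : Fin r → κ)) ∘ e') = (D.map (algebraMap A κ)).row := by
      funext a; rw [Function.comp_apply, ← hrow' a]; rfl
    rwa [← h2]
  have hdet : D.det ∉ x.asIdeal := by
    intro hmem
    have := (Matrix.isUnit_iff_isUnit_det _).1 hD
    rw [← RingHom.mapMatrix_apply, ← RingHom.map_det, Ideal.algebraMap_residueField_eq_zero.2 hmem]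
      at this
    exact not_isUnit_zero this
  refine Filter.mem_of_superset ((PrimeSpectrum.basicOpen D.det).2.mem_nhds hdet) ?_
  intro y hy
  let κ' := y.asIdeal.ResidueField
  let ev' : κ' ⊗[A] Q →ₗ[κ'] (Fin r → κ') :=
    LinearMap.liftBaseChange κ'
      (((Algebra.linearMap A κ').compLeft (Fin r)).comp ((LinearMap.funLeft A A row).comp Φ))
  have hev' : ∀ b, ev' (1 ⊗ₜ f (p b)) = (D.map (algebraMap A κ')).col b := fun b => by
    funext a; simp [ev']; rfl
  have hU : IsUnit (D.map (algebraMap A κ')) := by
    rw [Matrix.isUnit_iff_isUnit_det, ← RingHom.mapMatrix_apply, ← RingHom.map_det, isUnit_iff_ne_zero]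
    intro h0
    exact hy (Ideal.algebraMap_residueField_eq_zero.1 h0)
  let v : Fin r → LinearMap.range (f.baseChange κ') := fun b =>
    ⟨1 ⊗ₜ f (p b), ⟨1 ⊗ₜ p b, by simp⟩⟩
  have hv : LinearIndependent κ' v := by
    apply LinearIndependent.of_comp (ev'.comp (LinearMap.range (f.baseChange κ')).subtype)
    have : ⇑(ev'.comp (LinearMap.range (f.baseChange κ')).subtype) ∘ v =
        (D.map (algebraMap A κ')).col := funext hev'
    rw [this]
    exact Matrix.linearIndependent_cols_iff_isUnit.2 hU
  haveI : Module.Finite κ' (κ' ⊗[A] Q) := inferInstance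
  have h1 := hv.fintype_card_le_finrank
  rw [Fintype.card_fin] at h1
  exact h1

variable {ι : Type} {c : ComplexShape ι} (P : HomologicalComplex (ModuleCat.{u} A) c)

theorem finrank_homology_add {k : Type u} [Field k] (K : ShortComplex (ModuleCat.{u} k))
    [Module.Finite k K.X₂] :
    Module.finrank k K.homology + Module.finrank k (LinearMap.range K.f.hom) +
      Module.finrank k (LinearMap.range K.g.hom) = Module.finrank k K.X₂ := by
  rw [← LinearMap.finrank_range_add_finrank_ker K.g.hom, K.moduleCatHomologyIso.toLinearEquiv.finrank_eq]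
  have h1 : Module.finrank k (LinearMap.range K.f.hom) =
      Module.finrank k (LinearMap.range K.moduleCatToCycles) := by
    have : LinearMap.range K.f.hom =
        (LinearMap.range K.moduleCatToCycles).map (LinearMap.ker K.g.hom).subtype := by
      rw [← LinearMap.range_comp]; rfl
    rw [this]
    exact (Submodule.equivMapOfInjective _ (Submodule.injective_subtype _) _).finrank_eq.symm
  have h2 := Submodule.finrank_quotient_add_finrank (LinearMap.range K.moduleCatToCycles)
  have h3 : Module.finrank k K.moduleCatLeftHomologyData.H =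
      Module.finrank k (LinearMap.ker K.g.hom ⧸ LinearMap.range K.moduleCatToCycles) := rfl
  omega

theorem finrank_bcCx_homology_add (k : Type u) [Field k] [inst : Algebra A k] (j : ι)
    [Module.Finite A (P.X j)] :
    Module.finrank k ((CohIII.bcCx (algebraMap A k) P).homology j) +
        Module.finrank k (LinearMap.range ((P.d (c.prev j) j).hom.baseChange k)) +
        Module.finrank k (LinearMap.range ((P.d j (c.next j)).hom.baseChange k)) =
      Module.finrank k (k ⊗[A] P.X j) := by
  obtain ⟨φ, rfl⟩ : ∃ φ : A →+* k, inst = φ.toAlgebra :=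
    ⟨@algebraMap A k _ _ inst, Algebra.algebra_ext _ _ fun _ => rfl⟩
  letI := φ.toAlgebra
  haveI : Module.Finite k ((CohIII.bcCx φ P).sc j).X₂ :=
    inferInstanceAs (Module.Finite k (k ⊗[A] P.X j))
  exact finrank_homology_add ((CohIII.bcCx φ P).sc j)

theorem dRank_add {i j k : ι} (hi : c.prev j = i) (hk : c.next j = k) [Module.Finite A (P.X j)]
    [Module.Flat A (P.X j)] (x : PrimeSpectrum A) :
    CohIII.dRank P j x + fibreRk (P.d i j).hom x + fibreRk (P.d j k).hom x =
      Module.rankAtStalk (P.X j) x := by
  subst hi hk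
  rw [Module.rankAtStalk_eq]
  exact finrank_bcCx_homology_add P x.asIdeal.ResidueField j

theorem upperSemicontinuous_dRank (hP : ∀ i, Module.Finite A (P.X i) ∧ Module.Flat A (P.X i))
    (hp : ∀ i, Module.FinitePresentation A (P.X i)) (j : ι) :
    UpperSemicontinuous (CohIII.dRank P j) := by
  haveI := fun i => (hP i).1
  haveI := fun i => (hP i).2
  haveI := hp
  haveI : ∀ i, Module.Projective A (P.X i) := fun i =>
    Module.Flat.projective_of_finitePresentation
  intro x y hxy
  have h1 := (isOpen_le_fibreRk (P.d (c.prev j) j).hom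
    (fibreRk (P.d (c.prev j) j).hom x)).mem_nhds (x := x) (by simp)
  have h2 := (isOpen_le_fibreRk (P.d j (c.next j)).hom
    (fibreRk (P.d j (c.next j)).hom x)).mem_nhds (x := x) (by simp)
  have h3 := (Module.isLocallyConstant_rankAtStalk (R := A) (M := P.X j)).eventually_eq x
  filter_upwards [h1, h2, h3] with z hz1 hz2 hz3
  have e1 := dRank_add P (i := c.prev j) (j := j) rfl rfl x
  have e2 := dRank_add P (i := c.prev j) (j := j) rfl rfl z
  omega

end Groth.Agent.FlatCx
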