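import Mathlib.Algebra.Homology.ShortComplex.ModuleCat
import Mathlib.Algebra.Homology.ShortComplex.HomologicalComplex
import Mathlib.Algebra.Homology.HomologicalComplex
import Mathlib.Algebra.Category.ModuleCat.Abelian

/-!
# Elementwise criteria for maps of homology of complexes of modules
-/

set_option autoImplicit false

universe u w

open CategoryTheory CategoryTheory.Limits

namespace Groth.Agent.FlatCx

variable {A : Type u} [Ring A] {ι : Type*} {c : ComplexShape ι}
  (K : HomologicalComplex (ModuleCat.{w} A) c) {i j k : ι}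

theorem iCycles_injective : Function.Injective (K.iCycles j) :=
  (ModuleCat.mono_iff_injective _).1 inferInstance

theorem homologyπ_surjective : Function.Surjective (K.homologyπ j) :=
  (ModuleCat.epi_iff_surjective _).1 inferInstance

theorem d_iCycles (x : K.cycles j) : K.d j k (K.iCycles j x) = 0 := by
  have h := K.iCycles_d j k
  exact congr($h x)

theorem exists_cycles (hk : c.next j = k) (z : K.X j) (hz : K.d j k z = 0) :
    ∃ x : K.cycles j, K.iCycles j x = z := by
  subst hk
  exact ⟨(K.sc j).moduleCatCyclesIso.inv ⟨z, hz⟩,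
    ShortComplex.moduleCatCyclesIso_inv_iCycles_apply (K.sc j) ⟨z, hz⟩⟩

theorem homologyπ_eq_zero_iff (hi : c.prev j = i) (x : K.cycles j) :
    K.homologyπ j x = 0 ↔ K.iCycles j x ∈ LinearMap.range (K.d i j).hom := by
  have hex : (ShortComplex.mk _ _ (K.toCycles_comp_homologyπ i j)).Exact :=
    ShortComplex.exact_of_g_is_cokernel _ (K.homologyIsCokernel i j hi)
  constructor
  · intro h
    obtain ⟨y, hy⟩ := (ShortComplex.moduleCat_exact_iff _).1 hex x h
    refine ⟨y, ?_⟩
    have h2 := K.toCycles_i i j
    rw [← hy]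
    exact congr($h2 y).symm
  · rintro ⟨y, hy⟩
    have hx : K.toCycles i j y = x := by
      apply iCycles_injective K
      have h2 := K.toCycles_i i j
      exact (congr($h2 y)).trans hy
    rw [← hx]
    have h3 := K.toCycles_comp_homologyπ i j
    exact congr($h3 y)

variable {K} {L : HomologicalComplex (ModuleCat.{w} A) c} (φ : K ⟶ L)

theorem iCycles_cyclesMap (x : K.cycles j) :
    L.iCycles j (HomologicalComplex.cyclesMap φ j x) = φ.f j (K.iCycles j x) := by
  have h := HomologicalComplex.cyclesMap_i φ j
  exact congr($h x)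

theorem homologyMap_homologyπ (x : K.cycles j) :
    HomologicalComplex.homologyMap φ j (K.homologyπ j x) =
      L.homologyπ j (HomologicalComplex.cyclesMap φ j x) := by
  have h := HomologicalComplex.homologyπ_naturality φ j
  exact congr($h x)

theorem homologyMap_injective_iff (hi : c.prev j = i) (hk : c.next j = k) :
    Function.Injective (HomologicalComplex.homologyMap φ j) ↔
      ∀ z : K.X j, K.d j k z = 0 → φ.f j z ∈ LinearMap.range (L.d i j).hom →
        z ∈ LinearMap.range (K.d i j).hom := by
  constructor
  · intro h z hz hb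
    obtain ⟨x, rfl⟩ := exists_cycles K hk z hz
    rw [← homologyπ_eq_zero_iff K hi]
    apply h
    rw [homologyMap_homologyπ, map_zero, homologyπ_eq_zero_iff L hi, iCycles_cyclesMap]
    exact hb
  · intro h
    intro a b hab
    rw [← sub_eq_zero]
    obtain ⟨x, hx⟩ := homologyπ_surjective K (a - b)
    have h0 : HomologicalComplex.homologyMap φ j (a - b) = 0 := by simp [hab]
    rw [← hx] at h0 ⊢
    rw [homologyMap_homologyπ, homologyπ_eq_zero_iff L hi, iCycles_cyclesMap] at h0
    exact (homologyπ_eq_zero_iff K hi x).2 (h _ (d_iCycles K x) h0)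

theorem homologyMap_surjective_iff (hi : c.prev j = i) (hk : c.next j = k) :
    Function.Surjective (HomologicalComplex.homologyMap φ j) ↔
      ∀ z : L.X j, L.d j k z = 0 → ∃ z' : K.X j, K.d j k z' = 0 ∧
        φ.f j z' - z ∈ LinearMap.range (L.d i j).hom := by
  constructor
  · intro h z hz
    obtain ⟨x, rfl⟩ := exists_cycles L hk z hz
    obtain ⟨a, ha⟩ := h (L.homologyπ j x)
    obtain ⟨y, rfl⟩ := homologyπ_surjective K a
    refine ⟨K.iCycles j y, d_iCycles K y, ?_⟩
    rw [← iCycles_cyclesMap, ← map_sub, ← homologyπ_eq_zero_iff L hi, map_sub,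
      ← homologyMap_homologyπ, ha, sub_self]
  · intro h a
    obtain ⟨x, rfl⟩ := homologyπ_surjective L a
    obtain ⟨z', hz', hb⟩ := h _ (d_iCycles L (k := k) x)
    obtain ⟨y, rfl⟩ := exists_cycles K hk z' hz'
    refine ⟨K.homologyπ j y, ?_⟩
    rw [← iCycles_cyclesMap, ← map_sub, ← homologyπ_eq_zero_iff L hi, map_sub,
      ← homologyMap_homologyπ, sub_eq_zero] at hb
    exact hb

theorem isZero_homology_iff (hi : c.prev j = i) (hk : c.next j = k) :
    IsZero (K.homology j) ↔ ∀ z : K.X j, K.d j k z = 0 → z ∈ LinearMap.range (K.d i j).hom := by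
  constructor
  · intro h z hz
    obtain ⟨x, rfl⟩ := exists_cycles K hk z hz
    rw [← homologyπ_eq_zero_iff K hi]
    haveI := ModuleCat.subsingleton_of_isZero h
    exact Subsingleton.elim _ _
  · intro h
    haveI : Subsingleton (K.homology j) := subsingleton_of_forall_eq 0 fun a => by
      obtain ⟨x, rfl⟩ := homologyπ_surjective K a
      exact (homologyπ_eq_zero_iff K hi x).2 (h _ (d_iCycles K x))
    exact ModuleCat.isZero_of_subsingleton _

end Groth.Agent.FlatCx
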