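import Groth.Agent.FlatCx.Chain
import Mathlib.RingTheory.Filtration
import Mathlib.LinearAlgebra.TensorProduct.Quotient

/-!
# Exactness is tested on `A/m^(n+1) → A/m` for large `n`
-/

set_option autoImplicit false

universe u

open CategoryTheory CategoryTheory.Limits TensorProduct IsLocalRing

namespace Groth.Agent.FlatCx

variable {A : Type u} [CommRing A]

theorem tmul_quot_one_eq_zero_iff {N : Type u} [AddCommGroup N] [Module A N] (I : Ideal A) (y : N) :
    y ⊗ₜ[A] (1 : A ⧸ I) = 0 ↔ y ∈ I • (⊤ : Submodule A N) := by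
  rw [← (TensorProduct.tensorQuotEquivQuotSMul N I).map_eq_zero_iff, ← map_one (Ideal.Quotient.mk I),
    tensorQuotEquivQuotSMul_tmul_mk, one_smul, Submodule.Quotient.mk_eq_zero]

theorem exists_tmul_quot_one {N : Type u} [AddCommGroup N] [Module A N] (I : Ideal A)
    (z : N ⊗[A] (A ⧸ I)) : ∃ y : N, y ⊗ₜ[A] (1 : A ⧸ I) = z := by
  obtain ⟨y, hy⟩ := Submodule.mkQ_surjective _ (TensorProduct.tensorQuotEquivQuotSMul N I z)
  refine ⟨y, (TensorProduct.tensorQuotEquivQuotSMul N I).injective ?_⟩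
  rw [← map_one (Ideal.Quotient.mk I), tensorQuotEquivQuotSMul_tmul_mk, one_smul, ← hy]
  rfl

variable {ι : Type} {c : ComplexShape ι} {P : HomologicalComplex (ModuleCat.{u} A) c} {i j k : ι}

theorem surjAt_quot_of_eventually [IsNoetherianRing A] (hP : ∀ m, Module.Finite A (P.X m))
    (I : Ideal A) (n₀ : ℕ)
    (h : ∀ n ≥ n₀, SurjAt P i j k
      (Ideal.Quotient.factorₐ A (Ideal.pow_le_self (I := I) (Nat.succ_ne_zero n))).toLinearMap) :
    SurjAt P i j k (Algebra.linearMap A (A ⧸ I)) := by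
  haveI := hP k
  let N : Submodule A (P.X k) := LinearMap.range (P.d j k).hom
  obtain ⟨l, hl⟩ := Ideal.exists_pow_inf_eq_pow_smul I N
  intro z hz
  obtain ⟨z', hz', hb⟩ := h (max n₀ l) (le_max_left _ _) z hz
  obtain ⟨y, rfl⟩ := exists_tmul_quot_one _ z'
  rw [dT, LinearMap.rTensor_tmul, tmul_quot_one_eq_zero_iff] at hz'
  have hmem : (P.d j k).hom y ∈ I • N := by
    have h1 : (P.d j k).hom y ∈ I ^ (max n₀ l + 1) • ⊤ ⊓ N := ⟨hz', y, rfl⟩
    rw [hl _ (le_trans (le_max_right _ _) (Nat.le_succ _))] at h1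
    refine Submodule.smul_mono (Ideal.pow_le_self (by omega)) inf_le_right h1
  have hN : I • N = (I • ⊤ : Submodule A (P.X j)).map (P.d j k).hom := by
    rw [Submodule.map_smul'', Submodule.map_top]
  rw [hN] at hmem
  obtain ⟨y', hy', hyy⟩ := hmem
  refine ⟨(y - y') ⊗ₜ 1, ?_, ?_⟩
  · rw [dT, LinearMap.rTensor_tmul, map_sub, hyy, sub_self, zero_tmul]
  · rw [LinearMap.lTensor_tmul] at hb ⊢
    have hy0 : y' ⊗ₜ[A] (1 : A ⧸ I) = 0 := (tmul_quot_one_eq_zero_iff I y').2 hy'
    simp only [Algebra.linearMap_apply, map_one, sub_tmul, hy0, sub_zero]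
    simpa using hb

theorem surjAt_factor_of_epi (h : (CohIII.TFun P j).PreservesEpimorphisms)
    (hi : c.prev j = i) (hk : c.next j = k) (I : Ideal A) (n : ℕ) :
    SurjAt P i j k
      (Ideal.Quotient.factorₐ A (Ideal.pow_le_self (I := I) (Nat.succ_ne_zero n))).toLinearMap :=
  (preservesEpi_iff hi hk).1 h _ _ _ (Ideal.Quotient.factor_surjective (Ideal.pow_le_self (Nat.succ_ne_zero n)))

end Groth.Agent.FlatCx
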