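import Groth.Agent.FlatCx.Chain
import Mathlib.RingTheory.Artinian.Ring
import Mathlib.RingTheory.FiniteLength
import Mathlib.RingTheory.Length
import Mathlib.Algebra.Module.Torsion.Basic
import Mathlib.LinearAlgebra.DirectSum.Finsupp

/-!
# Complexes of flat modules over an Artinian local ring
-/

set_option autoImplicit false

universe u

open CategoryTheory CategoryTheory.Limits TensorProduct MonoidalCategory IsLocalRing

namespace Groth.Agent.FlatCx

variable {A : Type u} [CommRing A]

theorem flat_quotient_of_rTensor_injective {I Q W : Type u} [AddCommGroup I] [Module A I]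
    [AddCommGroup Q] [Module A Q] [AddCommGroup W] [Module A W] [Module.Flat A Q]
    {f : I →ₗ[A] Q} {g : Q →ₗ[A] W} (hex : Function.Exact f g) (hg : Function.Surjective g)
    (h : ∀ (M : Type u) [AddCommGroup M] [Module A M], Function.Injective (f.rTensor M)) :
    Module.Flat A W := by
  rw [Module.Flat.iff_lTensor_preserves_injective_linearMap]
  intro M' M _ _ _ _ φ hφ
  rw [injective_iff_map_eq_zero]
  intro x hx
  obtain ⟨y, rfl⟩ := LinearMap.rTensor_surjective M' hg x
  rw [← LinearMap.comp_apply, LinearMap.lTensor_comp_rTensor, ← LinearMap.rTensor_comp_lTensor,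
    LinearMap.comp_apply] at hx
  obtain ⟨i, hi⟩ := ((rTensor_exact M hex hg) _).1 hx
  let ψ := (LinearMap.range φ).mkQ
  have hψ : ψ ∘ₗ φ = 0 := LinearMap.range_mkQ_comp φ
  have h0 : ψ.lTensor I i = 0 := by
    apply h (M ⧸ LinearMap.range φ)
    rw [map_zero, ← LinearMap.comp_apply, LinearMap.rTensor_comp_lTensor,
      ← LinearMap.lTensor_comp_rTensor, LinearMap.comp_apply, hi, ← LinearMap.comp_apply,
      ← LinearMap.lTensor_comp, hψ, LinearMap.lTensor_zero]
    rfl
  obtain ⟨i', hi'⟩ := ((lTensor_exact I (LinearMap.exact_map_mkQ_range φ)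
    (Submodule.mkQ_surjective _)) _).1 h0
  have : f.rTensor M' i' = y := by
    apply Module.Flat.lTensor_preserves_injective_linearMap (M := Q) φ hφ
    rw [← LinearMap.comp_apply, LinearMap.lTensor_comp_rTensor, ← LinearMap.rTensor_comp_lTensor,
      LinearMap.comp_apply, hi', hi]
  rw [← this, ← LinearMap.comp_apply, ← LinearMap.rTensor_comp, hex.linearMap_comp_eq_zero,
    LinearMap.rTensor_zero]
  rfl

theorem rTensor_injective_finsupp {I Q k : Type u} [AddCommGroup I] [Module A I] [AddCommGroup Q]
    [Module A Q] [AddCommGroup k] [Module A k] (f : I →ₗ[A] Q)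
    (h : Function.Injective (f.rTensor k)) (κ : Type u) :
    Function.Injective (f.rTensor (κ →₀ k)) := by
  classical
  rw [injective_iff_map_eq_zero]
  intro w hw
  apply (TensorProduct.finsuppRight A A I k κ).injective
  rw [map_zero]
  ext b
  rw [TensorProduct.finsuppRight_apply, Finsupp.zero_apply]
  apply h
  rw [map_zero, ← LinearMap.comp_apply, LinearMap.rTensor_comp_lTensor,
    ← LinearMap.lTensor_comp_rTensor, LinearMap.comp_apply, hw, map_zero]

theorem rTensor_injective_congr {I Q M M' : Type u} [AddCommGroup I] [Module A I] [AddCommGroup Q]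
    [Module A Q] [AddCommGroup M] [Module A M] [AddCommGroup M'] [Module A M'] (f : I →ₗ[A] Q)
    (e : M ≃ₗ[A] M') (h : Function.Injective (f.rTensor M')) :
    Function.Injective (f.rTensor M) := by
  intro x y hxy
  apply (LinearEquiv.lTensor I e).injective
  apply h
  have hn : ∀ v, f.rTensor M' (LinearEquiv.lTensor I e v) = e.toLinearMap.lTensor Q (f.rTensor M v) := by
    intro v
    rw [← LinearMap.comp_apply (e.toLinearMap.lTensor Q), LinearMap.lTensor_comp_rTensor,
      ← LinearMap.rTensor_comp_lTensor, LinearMap.comp_apply]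
    rfl
  rw [hn, hn, hxy]

variable [IsLocalRing A]

theorem rTensor_injective_of_killed {I Q : Type u} [AddCommGroup I] [Module A I] [AddCommGroup Q]
    [Module A Q] (f : I →ₗ[A] Q) (h : Function.Injective (f.rTensor (ResidueField A)))
    (M : Type u) [AddCommGroup M] [Module A M]
    (hM : Module.IsTorsionBySet A M (maximalIdeal A : Set A)) :
    Function.Injective (f.rTensor M) := by
  letI : Module (A ⧸ maximalIdeal A) M := hM.module
  haveI : IsScalarTower A (A ⧸ maximalIdeal A) M := Module.IsTorsionBySet.isScalarTower hM
  letI : Field (A ⧸ maximalIdeal A) := Ideal.Quotient.field _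
  let e : M ≃ₗ[A] (Module.Free.ChooseBasisIndex (A ⧸ maximalIdeal A) M →₀ (A ⧸ maximalIdeal A)) :=
    (Module.Free.chooseBasis (A ⧸ maximalIdeal A) M).repr.restrictScalars A
  exact rTensor_injective_congr f e (rTensor_injective_finsupp f h _)

theorem rTensor_injective_of_pow_killed {I Q : Type u} [AddCommGroup I] [Module A I]
    [AddCommGroup Q] [Module A Q] [Module.Flat A Q] (f : I →ₗ[A] Q)
    (h : Function.Injective (f.rTensor (ResidueField A))) (n : ℕ) :
    ∀ (M : Type u) [AddCommGroup M] [Module A M], (maximalIdeal A) ^ n • (⊤ : Submodule A M) = ⊥ →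
      Function.Injective (f.rTensor M) := by
  induction n with
  | zero =>
    intro M _ _ hM
    rw [pow_zero, Ideal.one_eq_top, Submodule.top_smul] at hM
    haveI : Subsingleton M := by
      rw [← Submodule.subsingleton_iff A]
      exact subsingleton_of_bot_eq_top hM.symm
    exact Function.injective_of_subsingleton _
  | succ n ih =>
    intro M _ _ hM
    let M' : Submodule A M := maximalIdeal A • ⊤
    have hM' : (maximalIdeal A) ^ n • (⊤ : Submodule A M') = ⊥ := by
      apply Submodule.map_injective_of_injective M'.injective_subtype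
      rw [Submodule.map_smul'', Submodule.map_bot, Submodule.map_top, Submodule.range_subtype,
        ← Submodule.smul_assoc, smul_eq_mul, ← pow_succ]
      exact hM
    have hq : Module.IsTorsionBySet A (M ⧸ M') (maximalIdeal A : Set A) := by
      intro x r
      obtain ⟨x, rfl⟩ := Submodule.mkQ_surjective _ x
      rw [← map_smul, Submodule.mkQ_apply, Submodule.Quotient.mk_eq_zero]
      exact Submodule.smul_mem_smul r.2 trivial
    rw [injective_iff_map_eq_zero]
    intro w hw
    have h0 : M'.mkQ.lTensor I w = 0 := by
      apply rTensor_injective_of_killed f h _ hq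
      rw [map_zero, ← LinearMap.comp_apply, LinearMap.rTensor_comp_lTensor,
        ← LinearMap.lTensor_comp_rTensor, LinearMap.comp_apply, hw, map_zero]
    obtain ⟨w', rfl⟩ := ((lTensor_exact I (LinearMap.exact_subtype_mkQ M')
      (Submodule.mkQ_surjective _)) _).1 h0
    have : f.rTensor M' w' = 0 := by
      apply Module.Flat.lTensor_preserves_injective_linearMap (M := Q) M'.subtype M'.injective_subtype
      rw [map_zero, ← LinearMap.comp_apply, LinearMap.lTensor_comp_rTensor,
        ← LinearMap.rTensor_comp_lTensor, LinearMap.comp_apply, hw]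
    rw [ih M' hM' (this.trans (map_zero _).symm), map_zero]

variable [IsArtinianRing A]

theorem flat_quotient_of_residue_injective {I Q W : Type u} [AddCommGroup I] [Module A I]
    [AddCommGroup Q] [Module A Q] [AddCommGroup W] [Module A W] [Module.Flat A Q]
    {f : I →ₗ[A] Q} {g : Q →ₗ[A] W} (hex : Function.Exact f g) (hg : Function.Surjective g)
    (h : Function.Injective (f.rTensor (ResidueField A))) : Module.Flat A W := by
  obtain ⟨n, hn⟩ : IsNilpotent (maximalIdeal A) := by
    rw [← jacobson_eq_maximalIdeal (⊥ : Ideal A) bot_ne_top]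
    exact IsArtinianRing.isNilpotent_jacobson_bot
  refine flat_quotient_of_rTensor_injective hex hg fun M _ _ => ?_
  exact rTensor_injective_of_pow_killed f h n M (by rw [hn]; exact Submodule.bot_smul ⊤)

theorem flat_of_residue_injective (W : Type u) [AddCommGroup W] [Module A W]
    (h : Function.Injective ((maximalIdeal A).subtype.lTensor W)) : Module.Flat A W := by
  let π := Finsupp.linearCombination A (id : W → W)
  have hex : Function.Exact (LinearMap.ker π).subtype π := LinearMap.exact_subtype_ker_map π
  refine @flat_quotient_of_residue_injective A _ _ _ (LinearMap.ker π) (W →₀ A) W _ _ _ _ _ _ _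
    (LinearMap.ker π).subtype π hex
    (Finsupp.linearCombination_id_surjective A W) ?_
  rw [← LinearMap.lTensor_inj_iff_rTensor_inj]
  exact lTensor_injective_of_exact_of_exact_of_rTensor_injective
    (LinearMap.exact_subtype_mkQ (maximalIdeal A)) (Submodule.mkQ_surjective _)
    (LinearMap.exact_subtype_ker_map π) (Finsupp.linearCombination_id_surjective A W)
    ((LinearMap.lTensor_inj_iff_rTensor_inj _ _).1 h)
    (Module.Flat.lTensor_preserves_injective_linearMap _ (Submodule.injective_subtype _))

variable {ι : Type} {c : ComplexShape ι} {P : HomologicalComplex (ModuleCat.{u} A) c} {i j k : ι}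

theorem flat_opc_of_surjAt_residue (hP : ∀ m, Module.Flat A (P.X m))
    (h : SurjAt P i j k (Algebra.linearMap A (ResidueField A))) :
    Module.Flat A (Opc P j k) := by
  haveI := hP
  let d := (P.d j k).hom
  refine flat_quotient_of_residue_injective (LinearMap.exact_subtype_mkQ (LinearMap.range d))
    (Submodule.mkQ_surjective _) ?_
  rw [injective_iff_map_eq_zero]
  intro w hw
  obtain ⟨z, rfl⟩ := LinearMap.rTensor_surjective (ResidueField A) d.surjective_rangeRestrict w
  rw [← LinearMap.comp_apply, ← LinearMap.rTensor_comp] at hw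
  replace hw : dT P _ j k z = 0 := hw
  obtain ⟨z', hz', ⟨v, hv⟩⟩ := h z hw
  have hv' : d.rangeRestrict.rTensor _ (dT P _ i j v) = 0 := by
    rw [dT, ← LinearMap.comp_apply, ← LinearMap.rTensor_comp]
    have : d.rangeRestrict ∘ₗ (P.d i j).hom = 0 := by
      apply LinearMap.ext; intro a; apply Subtype.ext
      exact congr($(P.d_comp_d i j k) a)
    rw [this, LinearMap.rTensor_zero]; rfl
  rw [hv, map_sub, sub_eq_zero] at hv'
  rw [← hv', ← LinearMap.comp_apply, LinearMap.rTensor_comp_lTensor,
    ← LinearMap.lTensor_comp_rTensor, LinearMap.comp_apply]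
  suffices h0 : d.rangeRestrict.rTensor A z' = 0 by rw [h0, map_zero]
  apply (TensorProduct.rid A _).injective
  apply Subtype.ext
  rw [map_zero]
  have hnat : ∀ a : P.X j ⊗[A] A,
      ((TensorProduct.rid A (LinearMap.range d) (d.rangeRestrict.rTensor A a) : LinearMap.range d) : P.X k) =
        TensorProduct.rid A _ (d.rTensor A a) := by
    intro a
    induction a with
    | zero => simp
    | tmul x r => simp
    | add x y hx hy => simp [hx, hy]
  rw [hnat, show d.rTensor A z' = 0 from hz']
  simp

theorem preservesEpi_iff_surjective_residue_artinian (hP : ∀ m, Module.Flat A (P.X m))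
    (hc : c.prev (c.next j) = j) :
    (CohIII.TFun P j).PreservesEpimorphisms ↔
      Function.Surjective ((CohIII.TFun P j).map (toResidue A)).hom := by
  rw [TFun_map_surjective_iff (i := c.prev j) (k := c.next j) rfl rfl]
  exact ⟨fun h => (preservesEpi_iff rfl rfl).1 h A (ResidueField A) _ Ideal.Quotient.mk_surjective,
    fun h => (preservesEpi_iff_flat_opc P j hP hc).2 (flat_opc_of_surjAt_residue hP h)⟩

end Groth.Agent.FlatCx
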