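import Groth.Agent.FlatCx.Chain
import Mathlib.RingTheory.Flat.FaithfullyFlat.Basic

/-!
# Flat complexes under extension of scalars
-/

set_option autoImplicit false

universe u

open CategoryTheory CategoryTheory.Limits TensorProduct MonoidalCategory

namespace Groth.Agent.FlatCx

variable {A : Type u} [CommRing A] (B : Type u) [CommRing B] [Algebra A B]

/-- Cokernels commute with extension of scalars. -/
noncomputable def cokerBC {X Y : Type u} [AddCommGroup X] [Module A X] [AddCommGroup Y] [Module A Y]
    (f : X →ₗ[A] Y) :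
    ((B ⊗[A] Y) ⧸ LinearMap.range (f.baseChange B)) ≃ₗ[B] B ⊗[A] (Y ⧸ LinearMap.range f) :=
  (Submodule.quotEquivOfEq _ _ ((LinearMap.exact_iff).1 (by
      have := lTensor_exact B (LinearMap.exact_map_mkQ_range f) (Submodule.mkQ_surjective _)
      simpa only [← LinearMap.baseChange_eq_ltensor] using this)).symm).trans
    (LinearMap.quotKerEquivOfSurjective ((LinearMap.range f).mkQ.baseChange B)
      (LinearMap.lTensor_surjective B (Submodule.mkQ_surjective _)))

variable {ι : Type} {c : ComplexShape ι} (P : HomologicalComplex (ModuleCat.{u} A) c)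

theorem flat_X_bc (hP : ∀ m, Module.Flat A (P.X m)) (m : ι) :
    Module.Flat B ((CohIII.bcCx (algebraMap A B) P).X m) := by
  obtain ⟨φ, rfl⟩ : ∃ φ : A →+* B, ‹Algebra A B› = φ.toAlgebra :=
    ⟨algebraMap A B, Algebra.algebra_ext _ _ fun _ => rfl⟩
  letI := φ.toAlgebra
  haveI := hP m
  exact inferInstanceAs (Module.Flat B (B ⊗[A] P.X m))

/-- Opcycles commute with extension of scalars. -/
theorem opc_bc (i j : ι) :
    Nonempty (Opc (CohIII.bcCx (algebraMap A B) P) i j ≃ₗ[B] B ⊗[A] Opc P i j) := by
  obtain ⟨φ, rfl⟩ : ∃ φ : A →+* B, ‹Algebra A B› = φ.toAlgebra :=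
    ⟨algebraMap A B, Algebra.algebra_ext _ _ fun _ => rfl⟩
  letI := φ.toAlgebra
  exact ⟨cokerBC B (P.d i j).hom⟩

theorem flat_opc_bc (i j : ι) [Module.Flat A (Opc P i j)] :
    Module.Flat B (Opc (CohIII.bcCx (algebraMap A B) P) i j) :=
  .of_linearEquiv (opc_bc B P i j).some

theorem flat_opc_of_bc [Module.FaithfullyFlat A B] (i j : ι)
    [Module.Flat B (Opc (CohIII.bcCx (algebraMap A B) P) i j)] : Module.Flat A (Opc P i j) :=
  haveI := Module.Flat.of_linearEquiv (opc_bc B P i j).some.symm
  Module.Flat.of_flat_tensorProduct A (Opc P i j) B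

theorem preservesMono_bc (hP : ∀ m, Module.Flat A (P.X m)) (j : ι)
    (h : (CohIII.TFun P j).PreservesMonomorphisms) :
    (CohIII.TFun (CohIII.bcCx (algebraMap A B) P) j).PreservesMonomorphisms := by
  rw [preservesMono_iff_flat_opc hP rfl rfl] at h
  rw [preservesMono_iff_flat_opc (flat_X_bc B P hP) rfl rfl]
  exact flat_opc_bc B P _ _

theorem preservesEpi_bc (hP : ∀ m, Module.Flat A (P.X m)) (j : ι) (hc : c.prev (c.next j) = j)
    (h : (CohIII.TFun P j).PreservesEpimorphisms) :
    (CohIII.TFun (CohIII.bcCx (algebraMap A B) P) j).PreservesEpimorphisms := by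
  rw [preservesEpi_iff_flat_opc P j hP hc] at h
  rw [preservesEpi_iff_flat_opc _ j (flat_X_bc B P hP) hc]
  exact flat_opc_bc B P _ _

theorem preservesMono_bc_iff [Module.FaithfullyFlat A B] (hP : ∀ m, Module.Flat A (P.X m)) (j : ι) :
    (CohIII.TFun (CohIII.bcCx (algebraMap A B) P) j).PreservesMonomorphisms ↔
      (CohIII.TFun P j).PreservesMonomorphisms := by
  refine ⟨fun h => ?_, preservesMono_bc B P hP j⟩
  rw [preservesMono_iff_flat_opc (flat_X_bc B P hP) rfl rfl] at h
  rw [preservesMono_iff_flat_opc hP rfl rfl]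
  exact flat_opc_of_bc B P _ _

theorem preservesEpi_bc_iff [Module.FaithfullyFlat A B] (hP : ∀ m, Module.Flat A (P.X m)) (j : ι)
    (hc : c.prev (c.next j) = j) :
    (CohIII.TFun (CohIII.bcCx (algebraMap A B) P) j).PreservesEpimorphisms ↔
      (CohIII.TFun P j).PreservesEpimorphisms := by
  refine ⟨fun h => ?_, preservesEpi_bc B P hP j hc⟩
  rw [preservesEpi_iff_flat_opc _ j (flat_X_bc B P hP) hc] at h
  rw [preservesEpi_iff_flat_opc P j hP hc]
  exact flat_opc_of_bc B P _ _

/-- If the next opcycles are flat, homology commutes with extension of scalars. -/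
theorem homology_bc (hP : ∀ m, Module.Flat A (P.X m)) (j : ι)
    (hW : Module.Flat A (Opc P j (c.next j))) :
    Nonempty ((CohIII.bcCx (algebraMap A B) P).homology j ≃ₗ[B] B ⊗[A] Hm P j) := by
  obtain ⟨φ, rfl⟩ : ∃ φ : A →+* B, ‹Algebra A B› = φ.toAlgebra :=
    ⟨algebraMap A B, Algebra.algebra_ext _ _ fun _ => rfl⟩
  letI := φ.toAlgebra
  haveI := hP
  let d := (P.d j (c.next j)).hom
  have hexI : Function.Exact (LinearMap.range d).subtype (opq P j (c.next j)) :=
    LinearMap.exact_subtype_mkQ _
  haveI : Module.Flat A (LinearMap.range d) :=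
    flat_of_flat_quotient (Submodule.injective_subtype _) hexI (Submodule.mkQ_surjective _)
  have hexZ : Function.Exact (Zc P j).subtype d.rangeRestrict := by
    rw [LinearMap.exact_iff, LinearMap.ker_rangeRestrict, Submodule.range_subtype]
  have hI : Function.Injective ((LinearMap.range d).subtype.lTensor B) :=
    (LinearMap.lTensor_inj_iff_rTensor_inj _ _).2
      (rTensor_injective_of_flat_quotient (Submodule.injective_subtype _) hexI
        (Submodule.mkQ_surjective _) B)
  have hZ : Function.Injective ((Zc P j).subtype.lTensor B) :=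
    (LinearMap.lTensor_inj_iff_rTensor_inj _ _).2
      (rTensor_injective_of_flat_quotient (Submodule.injective_subtype _) hexZ
        d.surjective_rangeRestrict B)
  let K := (CohIII.bcCx φ P).sc j
  let θ : B ⊗[A] Zc P j →ₗ[B] LinearMap.ker (d.baseChange B) :=
    ((Zc P j).subtype.baseChange B).codRestrict _ fun w => by
      rw [LinearMap.mem_ker, ← LinearMap.comp_apply, ← LinearMap.baseChange_comp,
        LinearMap.comp_ker_subtype]
      simp
  have hθ : Function.Bijective θ := by
    refine ⟨fun a b h => hZ (congrArg Subtype.val h), fun z => ?_⟩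
    have hz : d.rangeRestrict.lTensor B z.1 = 0 := by
      apply hI
      rw [map_zero, ← LinearMap.comp_apply, ← LinearMap.lTensor_comp]
      exact z.2
    obtain ⟨w, hw⟩ := ((lTensor_exact B hexZ d.surjective_rangeRestrict) z.1).1 hz
    exact ⟨w, Subtype.ext hw⟩
  refine ⟨K.moduleCatHomologyIso.toLinearEquiv.trans ((Submodule.Quotient.equiv _ _
    (LinearEquiv.ofBijective θ hθ) ?_).symm.trans (cokerBC B (bd P j)))⟩
  show (LinearMap.range ((bd P j).baseChange B)).map θ = LinearMap.range K.moduleCatToCycles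
  rw [← LinearMap.range_comp]
  congr 1
  apply LinearMap.ext
  intro x
  apply Subtype.ext
  show (Zc P j).subtype.baseChange B ((bd P j).baseChange B x) =
    (P.d (c.prev j) j).hom.baseChange B x
  rw [← LinearMap.comp_apply, ← LinearMap.baseChange_comp]
  rfl

end Groth.Agent.FlatCx
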