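import Groth.Agent.FlatCx.Length
import Groth.Agent.FlatCx.ArtinRees
import Groth.Agent.InjHull.Matlis
import Mathlib.RingTheory.HopkinsLevitzki
import Mathlib.RingTheory.Filtration

/-!
# Exactness in one degree from the lengths of `H_j(P ⊗ A/m^(n+1))` for large `n`
-/

set_option autoImplicit false
set_option backward.isDefEq.respectTransparency false
set_option linter.style.haveILetI false

universe u

open CategoryTheory CategoryTheory.Limits TensorProduct MonoidalCategory IsLocalRing

namespace Groth.Agent.FlatCx

variable {A : Type u} [CommRing A] [IsLocalRing A] [IsNoetherianRing A]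

/-- `A / m^(n+1)` has finite length. -/
theorem isFiniteLength_quot_pow (n : ℕ) : IsFiniteLength A (A ⧸ maximalIdeal A ^ (n + 1)) := by
  refine Groth.Agent.InjHull.isFiniteLength_of_pow_smul_eq_zero (maximalIdeal A) (n + 1) _
    inferInstance fun a ha x => ?_
  obtain ⟨x, rfl⟩ := Ideal.Quotient.mk_surjective x
  exact Ideal.Quotient.eq_zero_iff_mem.2 (Ideal.mul_mem_right x _ ha)

theorem injective_of_surjective_of_length_eq {X Y : Type u} [AddCommGroup X] [Module A X]
    [AddCommGroup Y] [Module A Y] (g : X →ₗ[A] Y) (hg : Function.Surjective g)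
    (h : Module.length A X = Module.length A Y) (hfin : Module.length A Y ≠ ⊤) :
    Function.Injective g := by
  have e := Module.length_eq_add_of_exact (LinearMap.ker g).subtype g
    (Submodule.injective_subtype _) hg (LinearMap.exact_subtype_ker_map _)
  rw [h] at e
  have h0 : Module.length A (LinearMap.ker g) = 0 :=
    (WithTop.add_right_cancel hfin (by rw [zero_add, ← e])).symm
  rwa [Module.length_eq_zero_iff, Submodule.subsingleton_iff_eq_bot, LinearMap.ker_eq_bot] at h0

/-- A finite module whose reductions mod `m^(n+1)` have, for large `n`, the length of a free module of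
rank `dim (W ⊗ k)` is free. -/
theorem free_of_eventually_length_eq (W : Type u) [AddCommGroup W] [Module A W] [Module.Finite A W]
    (n₀ : ℕ) (h : ∀ n, n₀ ≤ n → Module.length A (W ⊗[A] (A ⧸ maximalIdeal A ^ (n + 1))) =
      Module.length A (W ⊗[A] ResidueField A) * Module.length A (A ⧸ maximalIdeal A ^ (n + 1))) :
    Module.Free A W := by
  classical
  let k := ResidueField A
  let b := Module.Free.chooseBasis k (k ⊗[A] W)
  let ι := Module.Free.ChooseBasisIndex k (k ⊗[A] W)
  haveI : Fintype ι := Module.Free.ChooseBasisIndex.fintype k (k ⊗[A] W)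
  have hmk : Function.Surjective (fun w : W => (1 : k) ⊗ₜ[A] w) :=
    TensorProduct.mk_surjective A W k Ideal.Quotient.mk_surjective
  choose f hf using fun i => hmk (b i)
  have hspan := IsLocalRing.span_eq_top_of_tmul_eq_basis f b hf
  let φ := Finsupp.linearCombination A f
  have hφ : Function.Surjective φ := by
    rw [← LinearMap.range_eq_top, Finsupp.range_linearCombination]
    exact hspan
  have hd : Module.length A (W ⊗[A] k) = ENat.card ι := by
    rw [((TensorProduct.comm A W k) ≪≫ₗ (b.repr.restrictScalars A)).length_eq, Module.length_finsupp]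
    haveI : IsSimpleModule A k :=
      isSimpleModule_iff_quot_maximal.2 ⟨maximalIdeal A, inferInstance, ⟨LinearEquiv.refl A _⟩⟩
    rw [Module.length_eq_one A k, mul_one]
  have hinj : Function.Injective φ := by
    rw [injective_iff_map_eq_zero]
    intro x hx
    have hx' : ∀ n, n₀ ≤ n → x ∈ (maximalIdeal A ^ (n + 1)) • (⊤ : Submodule A (ι →₀ A)) := by
      intro n hn
      let Q := A ⧸ maximalIdeal A ^ (n + 1)
      have hl : Module.length A ((ι →₀ A) ⊗[A] Q) = ENat.card ι * Module.length A Q := by
        rw [(TensorProduct.finsuppScalarLeft A Q ι).length_eq, Module.length_finsupp]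
      have hQ : Module.length A Q ≠ ⊤ := Module.length_ne_top_iff.2 (isFiniteLength_quot_pow n)
      have hs : Function.Surjective (φ.rTensor Q) := LinearMap.rTensor_surjective Q hφ
      have hfin : Module.length A (W ⊗[A] Q) ≠ ⊤ := by
        rw [h n hn, hd]
        exact WithTop.mul_ne_top (by rw [ENat.card_eq_coe_fintype_card]; exact ENat.coe_ne_top _) hQ
      have h0 := injective_of_surjective_of_length_eq (φ.rTensor Q) hs
        (by rw [hl, h n hn, hd]) hfin
      refine (tmul_quot_one_eq_zero_iff _ x).1 (h0 ?_)
      rw [LinearMap.rTensor_tmul, hx, zero_tmul, map_zero]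
    have hbot : x ∈ (⨅ i : ℕ, maximalIdeal A ^ i • (⊤ : Submodule A (ι →₀ A))) := by
      rw [Submodule.mem_iInf]
      intro i
      exact Submodule.smul_mono_left (Ideal.pow_le_pow_right (by omega))
        (hx' (max n₀ i) (le_max_left _ _))
    rw [Ideal.iInf_pow_smul_eq_bot_of_isLocalRing _ (maximalIdeal.isMaximal A).ne_top] at hbot
    exact hbot
  exact Module.Free.of_equiv (LinearEquiv.ofBijective φ ⟨hinj, hφ⟩)

variable {ι : Type} {c : ComplexShape ι} (P : HomologicalComplex (ModuleCat.{u} A) c) (j : ι)

theorem exact_of_eventually_length_eq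
    (hP : ∀ m, Module.Finite A (P.X m) ∧ Module.Flat A (P.X m)) {i k l : ι}
    (hi : c.prev j = i) (hk : c.next j = k) (hj : c.prev k = j) (hl : c.next k = l) (n₀ : ℕ)
    (h : ∀ n, n₀ ≤ n → Module.length A (CohIII.T P j (ModuleCat.of A (A ⧸ maximalIdeal A ^ (n + 1)))) =
      Module.length A (CohIII.T P j (ModuleCat.of A (ResidueField A))) *
        Module.length A (A ⧸ maximalIdeal A ^ (n + 1))) :
    (CohIII.TFun P j).PreservesMonomorphisms ∧ (CohIII.TFun P j).PreservesEpimorphisms := by
  have hfl : ∀ m, Module.Flat A (P.X m) := fun m => (hP m).2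
  have hc : c.prev (c.next j) = j := by rw [hk, hj]
  have hd : Module.length A (CohIII.T P j (ModuleCat.of A (ResidueField A))) ≠ ⊤ := by
    haveI := (hP j).1
    rw [Module.length_ne_top_iff]
    refine Groth.Agent.InjHull.isFiniteLength_of_pow_smul_eq_zero (maximalIdeal A) 1 _ ?_ ?_
    · haveI : Module.Finite A (P.X j ⊗[A] ResidueField A) := inferInstance
      haveI : IsNoetherian A (P.X j ⊗[A] ResidueField A) :=
        isNoetherian_of_isNoetherianRing_of_finite A _
      exact Module.Finite.of_surjective (cls P j (ModuleCat.of A (ResidueField A)))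
        (cls_surjective P j _)
    · intro a ha x
      obtain ⟨z, rfl⟩ := cls_surjective P j _ x
      rw [← map_smul, show a • z = 0 from Subtype.ext ?_, map_zero]
      show a • (z.1 : P.X j ⊗[A] ResidueField A) = 0
      rw [pow_one] at ha
      induction z.1 using TensorProduct.induction_on with
      | zero => rw [smul_zero]
      | tmul p r =>
        obtain ⟨r, rfl⟩ := Ideal.Quotient.mk_surjective r
        rw [← tmul_smul]
        exact (congrArg (p ⊗ₜ[A] ·) (Ideal.Quotient.eq_zero_iff_mem.2
          (Ideal.mul_mem_right r _ ha))).trans (tmul_zero _ _)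
      | add x y hx hy => rw [smul_add, hx, hy, add_zero]
  haveI : Module.Finite A (Hm P j) := by
    haveI := (hP j).1
    haveI : IsNoetherian A (P.X j) := isNoetherian_of_isNoetherianRing_of_finite A (P.X j)
    infer_instance
  let d := Module.length A (CohIII.T P j (ModuleCat.of A (ResidueField A)))
  have hs : ∀ n, n₀ ≤ n → SurjAt P i j k
      (Ideal.Quotient.factorₐ A (Ideal.pow_le_self (I := maximalIdeal A)
        (Nat.succ_ne_zero n))).toLinearMap := by
    intro n hn
    let Q := A ⧸ maximalIdeal A ^ (n + 1)
    let q : Q →ₗ[A] A ⧸ maximalIdeal A :=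
      (Ideal.Quotient.factorₐ A (Ideal.pow_le_self (Nat.succ_ne_zero n))).toLinearMap
    have hq : Function.Surjective q :=
      Ideal.Quotient.factor_surjective (Ideal.pow_le_self (Nat.succ_ne_zero n))
    have hQ : IsFiniteLength A Q := isFiniteLength_quot_pow n
    have hN : IsFiniteLength A (LinearMap.ker q) := hQ.of_injective (Submodule.injective_subtype _)
    haveI : IsSimpleModule A (A ⧸ maximalIdeal A) :=
      isSimpleModule_iff_quot_maximal.2 ⟨_, inferInstance, ⟨LinearEquiv.refl A _⟩⟩
    have hlQ : Module.length A Q = Module.length A (LinearMap.ker q) + 1 := by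
      rw [Module.length_eq_add_of_exact (LinearMap.ker q).subtype q (Submodule.injective_subtype _)
        hq (LinearMap.exact_subtype_ker_map _), Module.length_eq_one A (A ⧸ maximalIdeal A)]
    have hT := Tmap_exact P j hfl (ModuleCat.ofHom (LinearMap.ker q).subtype) (ModuleCat.ofHom q)
      (Submodule.injective_subtype _) (LinearMap.exact_subtype_ker_map _) hq
    obtain ⟨hle, heq⟩ := length_le_add_of_exact _ _ hT
    refine (TFun_map_surjective_iff hi hk (ModuleCat.ofHom q)).1 (heq (le_antisymm hle ?_) ?_).2
    · rw [h n hn, hlQ, mul_add, mul_one]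
      exact add_le_add (T_length_le_mul P j hfl hN).1 le_rfl
    · rw [h n hn]
      exact WithTop.mul_ne_top hd (Module.length_ne_top_iff.2 hQ)
  have hsA : SurjAt P i j k (Algebra.linearMap A (A ⧸ maximalIdeal A)) :=
    surjAt_quot_of_eventually (fun m => (hP m).1) (maximalIdeal A) n₀ hs
  have he : (CohIII.TFun P j).PreservesEpimorphisms :=
    (preservesEpi_iff_free_opc hP hi hk hj hl).2 (free_opc_of_surjAt_residue hP hsA)
  have hW := (preservesEpi_iff_flat_opc P j hfl hc).1 he
  have hlen : ∀ (M : Type u) [AddCommGroup M] [Module A M],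
      Module.length A (Hm P j ⊗[A] M) = Module.length A (CohIII.T P j (ModuleCat.of A M)) :=
    fun M _ _ => (LinearEquiv.ofBijective (comparison P j (ModuleCat.of A M))
      (comparison_bijective P j hfl hW (ModuleCat.of A M))).length_eq
  haveI : Module.Free A (Hm P j) := free_of_eventually_length_eq (Hm P j) n₀ fun n hn => by
    rw [hlen, hlen]
    exact h n hn
  exact ⟨(preservesMono_iff_flat_Hm P j hfl hW).2 inferInstance, he⟩

end Groth.Agent.FlatCx
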