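import Groth.Prelude.Def_ega3
import Groth.Agent.FlatCx.Homology
import Mathlib.RingTheory.Flat.Basic
import Mathlib.LinearAlgebra.TensorProduct.RightExactness

/-!
# The functors `M ↦ H_p(P ⊗ M)` for a complex of flat modules
-/

set_option autoImplicit false

universe u

open CategoryTheory CategoryTheory.Limits TensorProduct

namespace Groth.Agent.FlatCx

variable {A : Type u} [CommRing A] {ι : Type} {c : ComplexShape ι}
  (P : HomologicalComplex (ModuleCat.{u} A) c)

theorem tensorObj_d_hom (M : ModuleCat.{u} A) (i j : ι) :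
    ((CohIII.tensorObj P M).d i j).hom = (P.d i j).hom.rTensor M := rfl

theorem tensorMap_f_hom {M N : ModuleCat.{u} A} (g : M ⟶ N) (i : ι) :
    ((CohIII.tensorMap P g).f i).hom = g.hom.lTensor (P.X i) := rfl

/-- The differential of `P ⊗ M`. -/
noncomputable abbrev dT (M : Type u) [AddCommGroup M] [Module A M] (i j : ι) :
    P.X i ⊗[A] M →ₗ[A] P.X j ⊗[A] M :=
  (P.d i j).hom.rTensor M

theorem dT_comm {M N : Type u} [AddCommGroup M] [Module A M] [AddCommGroup N] [Module A N]
    (g : M →ₗ[A] N) (i j : ι) (x : P.X i ⊗[A] M) :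
    dT P N i j (g.lTensor (P.X i) x) = g.lTensor (P.X j) (dT P M i j x) := by
  rw [dT, dT, ← LinearMap.comp_apply, LinearMap.rTensor_comp_lTensor, ← LinearMap.lTensor_comp_rTensor,
    LinearMap.comp_apply]

theorem dT_dT (M : Type u) [AddCommGroup M] [Module A M] (i j k : ι) (x : P.X i ⊗[A] M) :
    dT P M j k (dT P M i j x) = 0 := by
  rw [dT, dT, ← LinearMap.comp_apply, ← LinearMap.rTensor_comp]
  have : (P.d j k).hom ∘ₗ (P.d i j).hom = 0 := by
    rw [← ModuleCat.hom_comp, P.d_comp_d]; rfl
  rw [this, LinearMap.rTensor_zero]; rfl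

variable {P} {i j k : ι}

/-- Elementwise injectivity of `H_j(P ⊗ g)`. -/
def InjAt (P : HomologicalComplex (ModuleCat.{u} A) c) (i j k : ι) {M N : Type u} [AddCommGroup M]
    [Module A M] [AddCommGroup N] [Module A N] (g : M →ₗ[A] N) : Prop :=
  ∀ z, dT P M j k z = 0 → g.lTensor (P.X j) z ∈ LinearMap.range (dT P N i j) →
    z ∈ LinearMap.range (dT P M i j)

/-- Elementwise surjectivity of `H_j(P ⊗ g)`. -/
def SurjAt (P : HomologicalComplex (ModuleCat.{u} A) c) (i j k : ι) {M N : Type u} [AddCommGroup M]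
    [Module A M] [AddCommGroup N] [Module A N] (g : M →ₗ[A] N) : Prop :=
  ∀ z, dT P N j k z = 0 → ∃ z', dT P M j k z' = 0 ∧
    g.lTensor (P.X j) z' - z ∈ LinearMap.range (dT P N i j)

theorem TFun_map_injective_iff (hi : c.prev j = i) (hk : c.next j = k) {M N : ModuleCat.{u} A}
    (g : M ⟶ N) : Function.Injective ((CohIII.TFun P j).map g).hom ↔ InjAt P i j k g.hom :=
  homologyMap_injective_iff (CohIII.tensorMap P g) hi hk

theorem TFun_map_surjective_iff (hi : c.prev j = i) (hk : c.next j = k) {M N : ModuleCat.{u} A}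
    (g : M ⟶ N) : Function.Surjective ((CohIII.TFun P j).map g).hom ↔ SurjAt P i j k g.hom :=
  homologyMap_surjective_iff (CohIII.tensorMap P g) hi hk

theorem preservesMono_iff (hi : c.prev j = i) (hk : c.next j = k) :
    (CohIII.TFun P j).PreservesMonomorphisms ↔
      ∀ (M N : Type u) [AddCommGroup M] [Module A M] [AddCommGroup N] [Module A N] (g : M →ₗ[A] N),
        Function.Injective g → InjAt P i j k g := by
  constructor
  · intro h M N _ _ _ _ g hg
    haveI : Mono (ModuleCat.ofHom g) := (ModuleCat.mono_iff_injective _).2 hg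
    exact (TFun_map_injective_iff hi hk (ModuleCat.ofHom g)).1
      ((ModuleCat.mono_iff_injective _).1 (h.preserves _))
  · refine fun h => ⟨fun {M N} g hg => ?_⟩
    exact (ModuleCat.mono_iff_injective _).2 <| (TFun_map_injective_iff hi hk g).2 <|
      h M N g.hom ((ModuleCat.mono_iff_injective _).1 hg)

theorem preservesEpi_iff (hi : c.prev j = i) (hk : c.next j = k) :
    (CohIII.TFun P j).PreservesEpimorphisms ↔
      ∀ (M N : Type u) [AddCommGroup M] [Module A M] [AddCommGroup N] [Module A N] (g : M →ₗ[A] N),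
        Function.Surjective g → SurjAt P i j k g := by
  constructor
  · intro h M N _ _ _ _ g hg
    haveI : Epi (ModuleCat.ofHom g) := (ModuleCat.epi_iff_surjective _).2 hg
    exact (TFun_map_surjective_iff hi hk (ModuleCat.ofHom g)).1
      ((ModuleCat.epi_iff_surjective _).1 (h.preserves _))
  · refine fun h => ⟨fun {M N} g hg => ?_⟩
    exact (ModuleCat.epi_iff_surjective _).2 <| (TFun_map_surjective_iff hi hk g).2 <|
      h M N g.hom ((ModuleCat.epi_iff_surjective _).1 hg)

/-- Exactness in degree `j` amounts to exactness in the next degree. -/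
theorem preservesEpi_iff_preservesMono_next (hP : ∀ m, Module.Flat A (P.X m)) {l : ι}
    (hi : c.prev j = i) (hk : c.next j = k) (hj : c.prev k = j) (hl : c.next k = l) :
    (CohIII.TFun P j).PreservesEpimorphisms ↔ (CohIII.TFun P k).PreservesMonomorphisms := by
  rw [preservesEpi_iff hi hk, preservesMono_iff hj hl]
  constructor
  · intro h M' M _ _ _ _ f hf x hx ⟨y, hy⟩
    let g : M →ₗ[A] M ⧸ LinearMap.range f := (LinearMap.range f).mkQ
    have hex : Function.Exact f g := LinearMap.exact_map_mkQ_range f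
    have hgs : Function.Surjective g := Submodule.mkQ_surjective _
    have hgy : dT P (M ⧸ LinearMap.range f) j k (g.lTensor (P.X j) y) = 0 := by
      rw [dT_comm, hy, ← LinearMap.comp_apply, ← LinearMap.lTensor_comp, hex.linearMap_comp_eq_zero,
        LinearMap.lTensor_zero]; rfl
    obtain ⟨z', hz', ⟨v, hv⟩⟩ := h M _ g hgs _ hgy
    obtain ⟨v', rfl⟩ := LinearMap.lTensor_surjective (P.X i) hgs v
    rw [dT_comm] at hv
    have h0 : g.lTensor (P.X j) (y - z' + dT P M i j v') = 0 := by
      rw [map_add, map_sub, hv]; abel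
    obtain ⟨w, hw⟩ := ((lTensor_exact (P.X j) hex hgs) _).1 h0
    refine ⟨w, ?_⟩
    haveI := hP k
    apply Module.Flat.lTensor_preserves_injective_linearMap (M := P.X k) f hf
    rw [← dT_comm, hw, map_add, map_sub, hy, hz', dT_dT, sub_zero, add_zero]
  · intro h M N _ _ _ _ g hg z hz
    let f := (LinearMap.ker g).subtype
    have hex : Function.Exact f g := LinearMap.exact_subtype_ker_map g
    obtain ⟨y, rfl⟩ := LinearMap.lTensor_surjective (P.X j) hg z
    rw [dT_comm] at hz
    obtain ⟨x, hx⟩ := ((lTensor_exact (P.X k) hex hg) _).1 hz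
    haveI := hP l
    have hx0 : dT P _ k l x = 0 := by
      apply Module.Flat.lTensor_preserves_injective_linearMap (M := P.X l) f
        (Submodule.injective_subtype _)
      rw [← dT_comm, hx, dT_dT, map_zero]
    obtain ⟨w, hw⟩ := h _ _ f (Submodule.injective_subtype _) x hx0 ⟨y, hx.symm⟩
    refine ⟨y - f.lTensor (P.X j) w, ?_, ⟨0, ?_⟩⟩
    · rw [map_sub, dT_comm, hw, hx, sub_self]
    · rw [map_zero, map_sub, ← LinearMap.comp_apply (g.lTensor _), ← LinearMap.lTensor_comp,
        hex.linearMap_comp_eq_zero, LinearMap.lTensor_zero]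
      simp

/-- The module of opcycles in degree `j`. -/
abbrev Opc (P : HomologicalComplex (ModuleCat.{u} A) c) (i j : ι) : Type u :=
  P.X j ⧸ LinearMap.range (P.d i j).hom

/-- The projection to the opcycles. -/
noncomputable abbrev opq (P : HomologicalComplex (ModuleCat.{u} A) c) (i j : ι) :
    P.X j →ₗ[A] Opc P i j :=
  (LinearMap.range (P.d i j).hom).mkQ

theorem exact_dT_opq (M : Type u) [AddCommGroup M] [Module A M] :
    Function.Exact (dT P M i j) ((opq P i j).rTensor M) :=
  rTensor_exact M (LinearMap.exact_map_mkQ_range _) (Submodule.mkQ_surjective _)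

theorem opc_comm {M N : Type u} [AddCommGroup M] [Module A M] [AddCommGroup N] [Module A N]
    (g : M →ₗ[A] N) (x : P.X j ⊗[A] M) :
    (opq P i j).rTensor N (g.lTensor (P.X j) x) = g.lTensor (Opc P i j) ((opq P i j).rTensor M x) := by
  rw [← LinearMap.comp_apply, LinearMap.rTensor_comp_lTensor, ← LinearMap.lTensor_comp_rTensor,
    LinearMap.comp_apply]

/-- Left exactness amounts to flatness of the opcycles. -/
theorem preservesMono_iff_flat_opc (hP : ∀ m, Module.Flat A (P.X m))
    (hi : c.prev j = i) (hk : c.next j = k) :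
    (CohIII.TFun P j).PreservesMonomorphisms ↔ Module.Flat A (Opc P i j) := by
  rw [preservesMono_iff hi hk]
  constructor
  · intro h
    rw [Module.Flat.iff_lTensor_preserves_injective_linearMap]
    intro M N _ _ _ _ g hg
    rw [injective_iff_map_eq_zero]
    intro w hw
    obtain ⟨x, rfl⟩ := LinearMap.rTensor_surjective M (Submodule.mkQ_surjective _) w
    rw [← opc_comm] at hw
    obtain ⟨v, hv⟩ := (exact_dT_opq N _).1 hw
    refine (exact_dT_opq M _).2 (h M N g hg x ?_ ⟨v, hv⟩)
    haveI := hP k
    apply Module.Flat.lTensor_preserves_injective_linearMap (M := P.X k) g hg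
    rw [← dT_comm, ← hv, dT_dT, map_zero]
  · intro h M N _ _ _ _ g hg z _ hz
    refine (exact_dT_opq M _).1 ?_
    apply Module.Flat.lTensor_preserves_injective_linearMap (M := Opc P i j) g hg
    rw [← opc_comm, map_zero, (exact_dT_opq N _).2 hz]

/-- Mathlib's opcycles are `Opc`. -/
noncomputable def opcyclesEquiv (hi : c.prev j = i) : P.opcycles j ≃ₗ[A] Opc P i j :=
  hi ▸ (P.sc j).moduleCatOpcyclesIso.toLinearEquiv

theorem preservesMono_iff_flat_opcycles (hP : ∀ m, Module.Flat A (P.X m)) :
    (CohIII.TFun P j).PreservesMonomorphisms ↔ Module.Flat A (P.opcycles j) := by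
  rw [preservesMono_iff_flat_opc hP rfl rfl]
  exact Module.Flat.equiv_iff (opcyclesEquiv rfl).symm

end Groth.Agent.FlatCx
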